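import Cfsg.Agent.Lib.PSL2Sub.Binary.Matrices
import Cfsg.Agent.Lib.PSLTwoClasses.Basic

/-!
Centralizers of the non-identity elements of `PSL₂(q)`, `q` odd.
-/

set_option autoImplicit false
set_option linter.unusedSectionVars false

namespace CfsgLib.SelfCentNoncyclic

open Matrix CfsgLib.SL2Trace

variable {F : Type*} [Field F] [Fintype F]

local notation "SL2" => Matrix.SpecialLinearGroup (Fin 2) F
local notation "PS2" => Matrix.ProjectiveSpecialLinearGroup (Fin 2) F

theorem card_center_two (h2 : (2 : F) ≠ 0) :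
    Nat.card (Subgroup.center SL2) = 2 := by
  have hodd : ¬ 2 ∣ Fintype.card F := fun h => by
    obtain ⟨p, hp⟩ := CharP.exists F
    obtain ⟨n, hn, hc⟩ := FiniteField.card F p
    rw [hc] at h
    have h' := Nat.prime_two.dvd_of_dvd_pow h
    have := (Nat.prime_dvd_prime_iff_eq Nat.prime_two hn).1 h'
    subst this
    exact h2 (by exact_mod_cast CharP.cast_eq_zero F 2)
  rw [Linear.card_center_SL, Fintype.card_fin]
  refine Nat.gcd_eq_right ?_
  have := Fintype.card_pos (α := F)
  omega

theorem card_SL_eq (h2 : (2 : F) ≠ 0) : Nat.card SL2 = 2 * Nat.card PS2 := by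
  rw [Subgroup.card_eq_card_quotient_mul_card_subgroup (Subgroup.center SL2), card_center_two h2,
    mul_comm]

theorem centralizer_struct (h2 : (2 : F) ≠ 0) {g : PS2} (hg : g ≠ 1) :
    IsCyclic (Subgroup.centralizer ({g} : Set PS2)) ∨
    (orderOf g = 2 ∧
      (Nat.card (Subgroup.centralizer ({g} : Set PS2)) + 1 = Fintype.card F ∨
        Nat.card (Subgroup.centralizer ({g} : Set PS2)) = Fintype.card F + 1) ∧
      4 ∣ Nat.card (Subgroup.centralizer ({g} : Set PS2)) ∧
      ∃ T : Subgroup PS2, T ≤ Subgroup.centralizer ({g} : Set PS2) ∧ IsCyclic T ∧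
        2 * Nat.card T = Nat.card (Subgroup.centralizer ({g} : Set PS2)) ∧ g ∈ T) ∨
    Nat.card (Subgroup.centralizer ({g} : Set PS2)) = Fintype.card F := by
  obtain ⟨M, rfl⟩ := QuotientGroup.mk_surjective g
  set C := Subgroup.centralizer ({toPSL M} : Set PS2)
  have hMc : M ∉ Subgroup.center SL2 := fun h => hg ((QuotientGroup.eq_one_iff M).2 h)
  have hS := card_SL_eq (F := F) h2
  have hC := C.card_mul_index
  have hT := (Subgroup.centralizer ({M} : Set SL2)).card_mul_index
  have hidx : C.index ≠ 0 := Subgroup.index_ne_zero_of_finite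
  by_cases ht : (M : Matrix (Fin 2) (Fin 2) F).trace = 0
  · refine Or.inr (Or.inl ?_)
    have hreg := PSL2Sub.trace_sq_ne_four h2 ht
    obtain ⟨hcyc, hyes, hno⟩ := centralizer_card_cyclic M hreg
    rw [← PSLTwoClasses.index_mul_two h2 ht] at hT
    have hCT : Nat.card C = Nat.card (Subgroup.centralizer ({M} : Set SL2)) :=
      Nat.eq_of_mul_eq_mul_right (Nat.pos_of_ne_zero hidx) (by
        rw [hC]
        have : Nat.card (Subgroup.centralizer ({M} : Set SL2)) * C.index * 2 = 2 * Nat.card PS2 := by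
          rw [mul_assoc, hT, hS]
        omega)
    refine ⟨(PSL2Sub.orderOf_two_iff h2 M).2 ht, ?_⟩
    set T := Subgroup.centralizer ({M} : Set SL2) with hTdef
    set π := QuotientGroup.mk' (Subgroup.center SL2)
    have hmap : T.map π ≤ C := by
      rintro _ ⟨a, ha, rfl⟩
      rw [Subgroup.mem_centralizer_singleton_iff]
      show (QuotientGroup.mk a : PS2) * QuotientGroup.mk M = QuotientGroup.mk M * QuotientGroup.mk a
      rw [← QuotientGroup.mk_mul, ← QuotientGroup.mk_mul, Subgroup.mem_centralizer_singleton_iff.1 ha]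
    have hMT : M ∈ T := Subgroup.mem_centralizer_singleton_iff.2 rfl
    have hgT : toPSL M ∈ T.map π := ⟨M, hMT, rfl⟩
    have hhalf : 2 * Nat.card (T.map π) = Nat.card T := by
      have hker : (π.domRestrict T).ker = (Subgroup.center SL2).subgroupOf T := by
        rw [MonoidHom.ker_domRestrict, QuotientGroup.ker_mk']
      have hZT : Subgroup.center SL2 ≤ T := fun a ha =>
        Subgroup.mem_centralizer_singleton_iff.2 (Subgroup.mem_center_iff.1 ha M).symm
      have h := (π.domRestrict T).ker.card_mul_index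
      rw [Subgroup.index_ker, MonoidHom.domRestrict_range, hker,
        Nat.card_congr (Subgroup.subgroupOfEquivOfLe hZT).toEquiv, card_center_two h2] at h
      exact h
    have h4 : 4 ∣ Nat.card C := by
      rw [hCT, ← hhalf]
      have h2' : 2 ∣ Nat.card (T.map π) := by
        have h := orderOf_dvd_natCard (⟨_, hgT⟩ : T.map π)
        rwa [Subgroup.orderOf_mk, (PSL2Sub.orderOf_two_iff h2 M).2 ht] at h
      exact mul_dvd_mul_left 2 h2'
    refine ⟨?_, h4, T.map π, hmap, ?_, by rw [hhalf, hCT], hgT⟩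
    · rw [hCT]
      have hq := Fintype.card_pos (α := F)
      by_cases hu : ∃ u : F, u ^ 2 - (M : Matrix (Fin 2) (Fin 2) F).trace * u + 1 = 0
      · left; rw [hyes hu]; omega
      · right; rw [hno hu]
    · haveI := hcyc
      exact isCyclic_of_surjective (π.subgroupMap T) (π.subgroupMap_surjective T)
  by_cases h4 : (M : Matrix (Fin 2) (Fin 2) F).trace ^ 2 = 4
  · refine Or.inr (Or.inr ?_)
    rw [PSLTwoClasses.card_centralizer_of_unipotent h4 hMc,
      (PSLTwoClasses.card_sq_eq_one F).2 h2, ← PSLTwoClasses.index_eq_of_trace (Or.inl ht)] at hT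
    refine Nat.eq_of_mul_eq_mul_right (Nat.pos_of_ne_zero hidx) ?_
    rw [hC]
    have : 2 * (Fintype.card F * C.index) = 2 * Nat.card PS2 := by rw [← mul_assoc, hT, hS]
    omega
  · exact Or.inl (PSL2Sub.Binary.centralizer_toPSL h4 ht).2

end CfsgLib.SelfCentNoncyclic
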