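import Cfsg.Agent.Lib.SelfCentNoncyclic.Basic
import Cfsg.Agent.Lib.SelfCentNoncyclic.PSL
import Mathlib.GroupTheory.PGroup

/-!
`PSL₂(q)` for `q = 9` or a prime with `q ± 1` a power of two has self-centralizing non-cyclic
subgroups.
-/

set_option autoImplicit false

namespace CfsgLib.SelfCentNoncyclic

open Subgroup

variable {G : Type*} [Group G]

theorem sc_of_mulEquiv {H : Type*} [Group H] (e : G ≃* H) (hP : SC H) : SC G := by
  intro K hK c hc
  have hK' : ¬ IsCyclic (K.map e.toMonoidHom) := fun h =>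
    hK ((K.equivMapOfInjective e.toMonoidHom e.injective).isCyclic.2 h)
  have h1 := hP _ hK' (show e c ∈ centralizer ((K.map e.toMonoidHom : Subgroup H) : Set H) from
    mem_centralizer_iff.2 fun _ hh => by
      obtain ⟨k, hk, rfl⟩ := hh
      show e k * e c = e c * e k
      rw [← map_mul, ← map_mul, mem_centralizer_iff.1 hc k hk])
  obtain ⟨k, hk, hkc⟩ := h1
  exact e.injective hkc ▸ hk

/-- A non-cyclic subgroup of a 2-group with a cyclic subgroup of index two contains its involution. -/
theorem mem_of_cyclic_half [Finite G] {C T H : Subgroup G} {n : ℕ} (hC : Nat.card C = 2 ^ n)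
    (hTC : T ≤ C) (hT : IsCyclic T) (h2 : 2 * Nat.card T = Nat.card C) {z : G} (hzT : z ∈ T)
    (hz : orderOf z = 2) (hHC : H ≤ C) (hH : ¬ IsCyclic H) : z ∈ H := by
  have : Fact (Nat.Prime 2) := ⟨Nat.prime_two⟩
  have hrel : T.relIndex C ∣ 2 := by
    have h := (T.subgroupOf C).card_mul_index
    rw [Nat.card_congr (subgroupOfEquivOfLe hTC).toEquiv, ← h2, mul_comm 2] at h
    exact (Nat.eq_of_mul_eq_mul_left Nat.card_pos h) ▸ dvd_rfl
  have hHT : H ⊓ T ≠ ⊥ := by
    intro hb
    have h1 : (T.subgroupOf H).index ≤ 2 := by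
      have := Subgroup.relIndex_le_of_le_right (H := T) hHC (by
        intro h0; rw [h0, zero_dvd_iff] at hrel; omega)
      exact this.trans (Nat.le_of_dvd (by norm_num) hrel)
    have hbot : T.subgroupOf H = ⊥ := by
      rw [subgroupOf_eq_bot, disjoint_iff, inf_comm, hb]
    rw [hbot, index_bot] at h1
    apply hH
    rcases Nat.lt_or_ge (Nat.card H) 2 with h | h
    · have : Subsingleton H := (Nat.card_eq_one_iff_unique.1 (by
        have := Nat.card_pos (α := H); omega)).1
      infer_instance
    · exact isCyclic_of_prime_card (le_antisymm h1 h)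
  have hp : IsPGroup 2 ↥(H ⊓ T) :=
    (IsPGroup.of_card hC).to_le (inf_le_left.trans hHC)
  obtain ⟨w, hw⟩ := exists_prime_orderOf_dvd_card' (G := ↥(H ⊓ T)) 2 (by
    rcases hp.card_eq_or_dvd with h | h
    · exact absurd (eq_bot_of_card_eq _ h) hHT
    · exact h)
  rw [← Subgroup.orderOf_coe] at hw
  obtain ⟨hwH, hwT⟩ := mem_inf.1 w.2
  suffices h : (w : G) = z from h ▸ hwH
  classical
  have : Fintype T := Fintype.ofFinite _
  have hle := IsCyclic.card_pow_eq_one_le (α := T) (n := 2) (by norm_num)
  by_contra hne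
  have hsub : ({1, ⟨w, hwT⟩, ⟨z, hzT⟩} : Finset T) ⊆ Finset.univ.filter fun c => c ^ 2 = 1 := by
    intro c hc
    simp only [Finset.mem_insert, Finset.mem_singleton] at hc
    simp only [Finset.mem_filter, Finset.mem_univ, true_and]
    rcases hc with rfl | rfl | rfl
    · exact one_pow 2
    · exact Subtype.ext (by simpa [← hw] using pow_orderOf_eq_one (w : G))
    · exact Subtype.ext (by simpa [← hz] using pow_orderOf_eq_one z)
  have h3 : ({1, ⟨w, hwT⟩, ⟨z, hzT⟩} : Finset T).card = 3 :=
    Finset.card_eq_three.2 ⟨1, ⟨w, hwT⟩, ⟨z, hzT⟩,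
      fun h => Invol.ne_one_of_invol hw (congrArg Subtype.val h).symm,
      fun h => Invol.ne_one_of_invol hz (congrArg Subtype.val h).symm,
      fun h => hne (congrArg Subtype.val h), rfl⟩
  have := (Finset.card_le_card hsub).trans hle
  omega

/-- The arithmetical condition on `q`. -/
def Admissible (q : ℕ) : Prop :=
  q = 9 ∨ (q.Prime ∧ ∃ k : ℕ, q = 2 ^ k + 1 ∨ q = 2 ^ k - 1)

theorem two_ne_zero_of_odd {F : Type*} [Field F] [Fintype F] (h : Odd (Fintype.card F)) :
    (2 : F) ≠ 0 := by
  intro h2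
  obtain ⟨p, hp⟩ := CharP.exists F
  obtain ⟨n, hn, hc⟩ := FiniteField.card F p
  have hd : p ∣ 2 := (CharP.cast_eq_zero_iff F p 2).1 (by exact_mod_cast h2)
  rw [(Nat.prime_dvd_prime_iff_eq hn Nat.prime_two).1 hd] at hc
  rw [hc, Nat.odd_pow_iff n.pos.ne'] at h
  exact absurd h (by decide)

theorem exists_pow_two {q c : ℕ} (hq : Admissible q) (hodd : Odd q)
    (hc : c + 1 = q ∨ c = q + 1) (h4 : 4 ∣ c) : ∃ n, c = 2 ^ n := by
  obtain ⟨m, hm⟩ := h4
  rcases hq with rfl | ⟨hp, k, hk | hk⟩
  · exact ⟨3, by norm_num; omega⟩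
  · rcases hc with h | h
    · exact ⟨k, by omega⟩
    · rcases k with _ | _ | k
      · simp at hk; subst hk; exact absurd hodd (by decide)
      · exact ⟨2, by norm_num at hk; norm_num; omega⟩
      · rw [pow_succ, pow_succ] at hk; omega
  · rcases hc with h | h
    · rcases k with _ | _ | k
      · simp at hk; omega
      · exact absurd (show q = 1 from hk ▸ rfl) hp.ne_one
      · rw [pow_succ, pow_succ] at hk; omega
    · exact ⟨k, by have := Nat.one_le_two_pow (n := k); omega⟩

theorem psl_sc (F : Type*) [Field F] [Fintype F] (hodd : Odd (Fintype.card F))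
    (hq : Admissible (Fintype.card F)) : SC (Matrix.ProjectiveSpecialLinearGroup (Fin 2) F) := by
  classical
  intro H hH c hc
  by_contra hcH
  have hc1 : c ≠ 1 := fun h => hcH (h ▸ one_mem H)
  have hHC : H ≤ centralizer ({c} : Set (Matrix.ProjectiveSpecialLinearGroup (Fin 2) F)) :=
    fun h hh => mem_centralizer_singleton_iff.2 (mem_centralizer_iff.1 hc h hh)
  rcases centralizer_struct (two_ne_zero_of_odd hodd) hc1 with hcyc | ⟨ho, hcases, h4, T, hTC, hT, h2, hcT⟩ | hcard
  · exact hH (isCyclic_of_le hHC)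
  · obtain ⟨n, hn⟩ := exists_pow_two hq hodd hcases h4
    exact hcH (mem_of_cyclic_half hn hTC hT h2 hcT ho hHC hH)
  · have hle := card_dvd_of_le hHC
    have hcC : c ∈ centralizer ({c} : Set (Matrix.ProjectiveSpecialLinearGroup (Fin 2) F)) :=
      mem_centralizer_singleton_iff.2 rfl
    have hlt : Nat.card H ≠ Fintype.card F := fun he =>
      hcH ((eq_of_le_of_card_ge hHC (by omega)) ▸ hcC)
    rw [hcard] at hle
    apply hH
    rcases hq with h9 | ⟨hp, -⟩
    · rw [h9] at hle hlt
      have : Nat.card H ∈ Nat.divisors 9 := Nat.mem_divisors.2 ⟨hle, by norm_num⟩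
      rw [show Nat.divisors 9 = {1, 3, 9} from by decide] at this
      simp only [Finset.mem_insert, Finset.mem_singleton] at this
      rcases this with h | h | h
      · have : Subsingleton H := (Nat.card_eq_one_iff_unique.1 h).1
        infer_instance
      · have : Fact (Nat.Prime 3) := ⟨Nat.prime_three⟩
        exact isCyclic_of_prime_card h
      · exact absurd h hlt
    · rcases (Nat.dvd_prime hp).1 hle with h | h
      · have : Subsingleton H := (Nat.card_eq_one_iff_unique.1 h).1
        infer_instance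
      · exact absurd h hlt

end CfsgLib.SelfCentNoncyclic
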