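import Cfsg.Agent.Lib.SelfCentNoncyclic.Shape
import Cfsg.Agent.Lib.SelfCentNoncyclic.Converse
import Cfsg.Agent.Lib.HalfTransitive.Imprimitive
import Cfsg.Agent.Lib.Solvable.Core
import Cfsg.Agent.S0508

/-!
The case of a dihedral Sylow 2-subgroup.
-/

set_option autoImplicit false

namespace CfsgLib.SelfCentNoncyclic

open Subgroup

theorem admissible_of_pow {p d : ℕ} (hp : p.Prime) (hp2 : p ≠ 2) (hd : d ≠ 0) {n : ℕ}
    (h : p ^ d = 2 ^ n + 1 ∨ p ^ d + 1 = 2 ^ n) : Admissible (p ^ d) := by
  have h1 : d = 1 ∨ p ^ d = 9 := by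
    rcases h with h | h
    · exact HalfTransitive.pow_eq_two_pow_succ hp hp2 hd h
    · left
      have hodd : Odd p := hp.odd_of_ne_two hp2
      have h3 : 3 ≤ p := by have := hp.two_le; omega
      rcases Nat.even_or_odd' d with ⟨e, rfl | rfl⟩
      · exfalso
        have hm : p ^ (2 * e) % 4 = 1 := by
          rw [pow_mul, Nat.pow_mod, show p ^ 2 % 4 = 1 by
            rw [Nat.pow_mod]; rcases Nat.odd_iff.1 hodd, (show p % 4 < 4 by omega) with ⟨h2, h4⟩
            have : p % 4 = 1 ∨ p % 4 = 3 := by omega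
            rcases this with h | h <;> rw [h]]
          simp
        have h9 : 9 ≤ p ^ (2 * e) :=
          le_trans (by nlinarith) (Nat.pow_le_pow_right (by omega) (show 2 ≤ 2 * e by omega))
        rcases n with _ | _ | n
        · omega
        · omega
        · rw [pow_succ, pow_succ] at h; omega
      · obtain ⟨a, -, ha⟩ := (Nat.dvd_prime_pow Nat.prime_two).1
          (h ▸ (by simpa using Odd.nat_add_dvd_pow_add_pow p 1 (n := 2 * e + 1) ⟨e, rfl⟩) :
            p + 1 ∣ 2 ^ n)
        rcases Nat.lt_or_ge a n with hlt | hge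
        · exfalso
          have hsq : p ^ 2 ≡ 1 [MOD 2 ^ (a + 1)] := by
            refine ((Nat.modEq_iff_dvd' (Nat.one_le_pow _ _ hp.pos)).2 ?_).symm
            rw [← one_pow 2, Nat.sq_sub_sq, one_pow, ha, pow_succ]
            obtain ⟨k, hk⟩ := hodd
            exact mul_dvd_mul_left _ ⟨k, by omega⟩
          have hd' : p ^ (2 * e + 1) + 1 ≡ p + 1 [MOD 2 ^ (a + 1)] := by
            refine Nat.ModEq.add_right 1 ?_
            rw [pow_succ p, pow_mul]
            simpa using (hsq.pow e).mul_right p
          rw [h, ha] at hd'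
          have h0 : 2 ^ (a + 1) ∣ 2 ^ n := Nat.pow_dvd_pow 2 hlt
          have h2 := (Nat.ModEq.dvd_iff hd' dvd_rfl).1 h0
          have := Nat.le_of_dvd (by positivity) h2
          rw [pow_succ] at this
          have := Nat.one_le_two_pow (n := a)
          omega
        · by_contra hne
          have h2 : p ^ 2 ≤ p ^ (2 * e + 1) := Nat.pow_le_pow_right hp.pos (by omega)
          have h4 : 2 ^ n ≤ 2 ^ a := Nat.pow_le_pow_right (by norm_num) hge
          nlinarith
  rcases h1 with rfl | h9
  · rw [pow_one] at h ⊢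
    exact Or.inr ⟨hp, n, h.imp id fun h => by omega⟩
  · exact Or.inl h9

theorem zpowers_eq_of_orderOf_eq {T : Type*} [Group T] [Finite T] [IsCyclic T] {a b : T}
    (h : orderOf a = orderOf b) : zpowers a = zpowers b := by
  classical
  have : Fintype T := Fintype.ofFinite _
  set S : Finset T := Finset.univ.filter fun x => x ^ orderOf b = 1
  have hle : S.card ≤ orderOf b := IsCyclic.card_pow_eq_one_le (orderOf_pos b)
  have key : ∀ c : T, orderOf c = orderOf b → ∀ x ∈ S, x ∈ zpowers c := by
    intro c hc x hx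
    set Z : Finset T := (zpowers c : Set T).toFinset
    have hsub : Z ⊆ S := fun y hy => by
      rw [Set.mem_toFinset, SetLike.mem_coe] at hy
      simp only [S, Finset.mem_filter, Finset.mem_univ, true_and]
      rw [← hc]
      exact orderOf_dvd_iff_pow_eq_one.1 (orderOf_dvd_of_mem_zpowers hy)
    have hcard : S.card ≤ Z.card := by
      rw [show Z.card = orderOf c by rw [← Nat.card_eq_card_toFinset, SetLike.coe_sort_coe,
        Nat.card_zpowers], hc]
      exact hle
    rw [← Finset.eq_of_subset_of_card_le hsub hcard, Set.mem_toFinset] at hx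
    exact hx
  apply le_antisymm <;> rw [zpowers_le]
  · exact key b rfl a (by simp [S, ← h, pow_orderOf_eq_one])
  · exact key a h b (by simp [S, pow_orderOf_eq_one])

variable {G : Type*} [Group G] [Finite G]

/-- An odd-order element centralizing `z` and normalized by `u` is trivial. -/
theorem eq_one_of_normalized (hP : SC G) {z u y : G} (hz : orderOf z = 2) (hu : orderOf u = 2)
    (hne : z ≠ u) (hzu : z * u = u * z) (hy : Odd (orderOf y)) (hzy : z * y = y * z)
    (hn : u * y * u⁻¹ ∈ zpowers y) : y = 1 := by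
  have h := odd_subgroup_trivial hP hz hu hne hzu (zpowers y) (by rwa [Nat.card_zpowers])
    (fun a ha => by
      obtain ⟨i, rfl⟩ := mem_zpowers_iff.1 ha
      exact (Commute.zpow_right hzy i).eq)
    (fun a ha => by
      obtain ⟨i, rfl⟩ := mem_zpowers_iff.1 ha
      rw [← conj_zpow]
      exact zpow_mem hn i)
  exact mem_bot.1 (h ▸ mem_zpowers y)

theorem dihedral_case [IsSimpleGroup G] (hP : SC G) (S : Sylow 2 G) {z u : G} (hz : orderOf z = 2)
    (hu : orderOf u = 2) (hne : z ≠ u) (hzS : z ∈ (S : Subgroup G)) (huS : u ∈ (S : Subgroup G))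
    (hcz : ∀ s ∈ (S : Subgroup G), s * z = z * s) {n : ℕ} (hn : 2 ≤ n)
    (hS : Nonempty ((S : Subgroup G) ≃* DihedralGroup n)) :
    ∃ (F : Type) (_ : Field F) (_ : Fintype F), Admissible (Fintype.card F) ∧
      Nonempty (G ≃* Matrix.ProjectiveSpecialLinearGroup (Fin 2) F) := by
  have hzu : z * u = u * z := (hcz u huS).symm
  have hO : (Cfsg.oddCore (centralizer ({z} : Set G))).map (centralizer ({z} : Set G)).subtype = ⊥ := by
    refine odd_subgroup_trivial hP hz hu hne hzu _ ?_ ?_ ?_
    · rw [card_map_of_injective (subtype_injective _)]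
      exact Nat.coprime_two_right.1 (Solvable.pPrimeCore_card_coprime 2 _)
    · rintro _ ⟨a, -, rfl⟩
      exact (mem_centralizer_singleton_iff.1 a.2).symm
    · rintro _ ⟨a, ha, rfl⟩
      exact ⟨⟨u, mem_centralizer_singleton_iff.2 hzu.symm⟩ * a *
        (⟨u, mem_centralizer_singleton_iff.2 hzu.symm⟩ : centralizer ({z} : Set G))⁻¹,
        (Solvable.pPrimeCore_normal 2 _).conj_mem a ha _, rfl⟩
  obtain ⟨F, _, _, hodd, ⟨e⟩⟩ := Cfsg.Agent.S0508.result S n hn hS z hz hzS hcz _ rfl
    (fun h => absurd hO h)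
    (fun s _ hs => absurd (mem_centralizer_iff.2 (fun a ha => by
      rw [hO] at ha
      rw [show a = 1 from mem_bot.1 ha, one_mul, mul_one])) hs)
    (fun Y hY hY' => absurd (le_bot_iff.1 (hO ▸ hY)) hY')
  refine ⟨F, inferInstance, inferInstance, ?_, ⟨e⟩⟩
  have hez : orderOf (e z) = 2 := by rw [e.orderOf_eq, hz]
  have heu : orderOf (e u) = 2 := by rw [e.orderOf_eq, hu]
  have hezu : e z * e u = e u * e z := by rw [← map_mul, ← map_mul, hzu]
  have hzC : e z ∈ centralizer ({e z} : Set (Matrix.ProjectiveSpecialLinearGroup (Fin 2) F)) :=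
    mem_centralizer_singleton_iff.2 rfl
  rcases centralizer_struct (two_ne_zero_of_odd hodd) (Invol.ne_one_of_invol hez) with
    hcyc | ⟨-, hcases, -, T, hTC, hT, h2, -⟩ | hcard
  · exfalso
    have hK := Case.isKleinFour_fourSub (ha := Invol.mul_self_eq_one hez)
      (hb := Invol.mul_self_eq_one heu) (hc := hezu) (Invol.ne_one_of_invol hez)
      (Invol.ne_one_of_invol heu) (fun h => hne (e.injective h))
    exact IsKleinFour.not_isCyclic (isCyclic_of_le (Case.fourSub_le hzC
      (mem_centralizer_singleton_iff.2 hezu.symm)))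
  · set c := Nat.card (centralizer ({e z} : Set (Matrix.ProjectiveSpecialLinearGroup (Fin 2) F)))
    have hc0 : c ≠ 0 := Nat.card_pos.ne'
    have hpow : c = 2 ^ c.primeFactorsList.length := by
      refine Nat.eq_prime_pow_of_unique_prime_dvd hc0 fun {r} hr hrc => ?_
      by_contra hr2
      have : Fact r.Prime := ⟨hr⟩
      rw [← h2] at hrc
      have hrT : r ∣ Nat.card T := ((Nat.coprime_primes hr Nat.prime_two).2 hr2).dvd_of_dvd_mul_left hrc
      obtain ⟨y, hy⟩ := exists_prime_orderOf_dvd_card' (G := T) r hrT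
      rw [← Subgroup.orderOf_coe] at hy
      have hyC := mem_centralizer_singleton_iff.1 (hTC y.2)
      have huC : e u ∈ centralizer ({e z} : Set (Matrix.ProjectiveSpecialLinearGroup (Fin 2) F)) :=
        mem_centralizer_singleton_iff.2 hezu.symm
      have hnT : e u * y * (e u)⁻¹ ∈ T := by
        have hidx : (T.subgroupOf (centralizer ({e z} : Set _))).index = 2 := by
          have h := (T.subgroupOf (centralizer ({e z} : Set _))).card_mul_index
          rw [Nat.card_congr (subgroupOfEquivOfLe hTC).toEquiv] at h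
          exact Nat.eq_of_mul_eq_mul_left (Nat.card_pos (α := T)) (h.trans (h2.symm.trans (mul_comm _ _)))
        exact (normal_of_index_eq_two hidx).conj_mem ⟨_, hTC y.2⟩ y.2 ⟨_, huC⟩
      set y' := e u * y * (e u)⁻¹ with hy'
      have hyy : y' ∈ zpowers (y : Matrix.ProjectiveSpecialLinearGroup (Fin 2) F) := by
        have ho : orderOf (⟨y', hnT⟩ : T) = r := by
          rw [Subgroup.orderOf_mk, hy', Invol.orderOf_conj, hy]
        have heq : zpowers (⟨y', hnT⟩ : T) = zpowers y :=
          zpowers_eq_of_orderOf_eq (ho.trans (by rw [← Subgroup.orderOf_coe, hy]))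
        obtain ⟨i, hi⟩ := mem_zpowers_iff.1 (heq ▸ mem_zpowers (⟨y', hnT⟩ : T))
        exact mem_zpowers_iff.2 ⟨i, congrArg Subtype.val hi⟩
      have h1 := eq_one_of_normalized hP hz hu hne hzu (y := e.symm y) ?_ ?_ ?_
      · rw [EmbeddingLike.map_eq_one_iff] at h1
        rw [h1, orderOf_one] at hy
        exact hr.ne_one hy.symm
      · rw [e.symm.orderOf_eq, hy]; exact hr.odd_of_ne_two hr2
      · apply e.injective
        rw [map_mul, map_mul, e.apply_symm_apply, hyC]
      · obtain ⟨i, hi⟩ := mem_zpowers_iff.1 hyy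
        refine mem_zpowers_iff.2 ⟨i, ?_⟩
        apply e.injective
        rw [map_zpow, map_mul, map_mul, map_inv, e.apply_symm_apply, hi]
    obtain ⟨p, hp⟩ := CharP.exists F
    obtain ⟨d, hd, hq⟩ := FiniteField.card F p
    have hp2 : p ≠ 2 := fun h => by
      subst h
      rw [hq, Nat.odd_pow_iff d.pos.ne'] at hodd
      exact absurd hodd (by decide)
    rw [hq] at hcases ⊢
    exact admissible_of_pow hd hp2 d.pos.ne' (n := c.primeFactorsList.length)
      (by rw [← hpow]; exact hcases.imp (fun h => h.symm) (fun h => h.symm))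
  · exfalso
    have h := orderOf_dvd_natCard (⟨_, hzC⟩ : centralizer ({e z} : Set _))
    rw [Subgroup.orderOf_mk, hez, hcard] at h
    exact Nat.not_even_iff_odd.2 hodd (even_iff_two_dvd.2 h)

end CfsgLib.SelfCentNoncyclic
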