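import Cfsg.Agent.Lib.SelfCentNoncyclic.Basic
import Cfsg.Agent.S0225
import Cfsg.Agent.S3224
import Mathlib.GroupTheory.Sylow
import Mathlib.GroupTheory.SpecificGroups.Dihedral
import Mathlib.GroupTheory.Subgroup.Simple

/-!
The shape of a Sylow 2-subgroup of a simple group of even order whose non-cyclic subgroups are
self-centralizing.
-/

set_option autoImplicit false

namespace CfsgLib.SelfCentNoncyclic

open Subgroup

variable {G : Type*} [Group G]

theorem center_eq_bot [IsSimpleGroup G] (hna : ¬ IsMulCommutative G) : center G = ⊥ := by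
  rcases IsSimpleGroup.eq_bot_or_eq_top_of_normal (center G) inferInstance with h | h
  · exact h
  · exact absurd ⟨⟨fun a b => mem_center_iff.1 (h ▸ mem_top b) a⟩⟩ hna

variable [Finite G]

theorem exists_four [IsSimpleGroup G] (hna : ¬ IsMulCommutative G) (heven : Even (Nat.card G)) :
    ∃ E : Subgroup G, IsKleinFour E := by
  by_contra h
  push Not at h
  obtain ⟨z, hz, N, hN, hodd, hc⟩ := Cfsg.Agent.S0225.result heven h
  rcases IsSimpleGroup.eq_bot_or_eq_top_of_normal N hN with hb | ht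
  · have hzc : z ∈ center G := mem_center_iff.2 fun g => by
      have h1 := hb ▸ hc g
      rw [mem_bot, mul_inv_eq_one, mul_inv_eq_iff_eq_mul] at h1
      exact h1.symm
    rw [center_eq_bot hna, mem_bot] at hzc
    exact Invol.ne_one_of_invol hz hzc
  · rw [ht, card_top] at hodd
    exact Nat.not_even_iff_odd.2 hodd heven

/-- A Sylow 2-subgroup with a central involution `z` and a self-centralizing four-group `⟨z, u⟩`. -/
theorem exists_setting [IsSimpleGroup G] (hP : SC G) (hna : ¬ IsMulCommutative G)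
    (heven : Even (Nat.card G)) :
    ∃ (S : Sylow 2 G) (z u : G), orderOf z = 2 ∧ orderOf u = 2 ∧ z ≠ u ∧
      z ∈ (S : Subgroup G) ∧ u ∈ (S : Subgroup G) ∧ (∀ s ∈ (S : Subgroup G), s * z = z * s) ∧
      ((∃ n : ℕ, 2 ≤ n ∧ Nonempty ((S : Subgroup G) ≃* DihedralGroup n)) ∨
        Cfsg.IsQuasiDihedral (S : Subgroup G)) := by
  have : Fact (Nat.Prime 2) := ⟨Nat.prime_two⟩
  obtain ⟨E, hE⟩ := exists_four hna heven
  have hE4 : Nat.card E = 4 := IsKleinFour.card_four
  obtain ⟨S, hS⟩ := (IsPGroup.of_card (n := 2) (show Nat.card E = 2 ^ 2 by rw [hE4]; rfl)).exists_le_sylow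
  have : Nontrivial (S : Subgroup G) := Finite.one_lt_card_iff_nontrivial.1
    (lt_of_lt_of_le (by omega : 1 < Nat.card E) (card_le_of_le hS))
  obtain ⟨z₀, hz₀, hzc⟩ := Cfsg.Agent.S3224.exists_central_involution S.isPGroup'
  set z : G := (z₀ : G) with hzdef
  have hz : orderOf z = 2 := by rw [hzdef, Subgroup.orderOf_coe, hz₀]
  have hcz : ∀ s ∈ (S : Subgroup G), s * z = z * s := fun s hs => congrArg Subtype.val (hzc ⟨s, hs⟩)
  have hzE : z ∈ E := mem_of_commute hP IsKleinFour.not_isCyclic fun h hh => hcz h (hS hh)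
  have hsq : ∀ e ∈ E, e * e = 1 := fun e he =>
    congrArg Subtype.val (IsKleinFour.mul_self (⟨e, he⟩ : E))
  obtain ⟨u, huE, hu1, huz⟩ : ∃ u ∈ E, u ≠ 1 ∧ u ≠ z := by
    by_contra h
    push Not at h
    have hsub : (E : Set G) ⊆ {1, z} := fun a ha => by
      by_cases h1 : a = 1
      · exact Or.inl h1
      · exact Or.inr (h a ha h1)
    have h2 := Set.ncard_le_ncard hsub (Set.toFinite _)
    rw [Set.ncard_pair (Invol.ne_one_of_invol hz).symm, ← Nat.card_coe_set_eq,
      SetLike.coe_sort_coe, hE4] at h2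
    omega
  have hu : orderOf u = 2 := Invol.orderOf_eq_two hu1 (hsq u huE)
  refine ⟨S, z, u, hz, hu, huz.symm, z₀.2, hS huE, hcz, ?_⟩
  have hu₀ : orderOf (⟨u, hS huE⟩ : (S : Subgroup G)) = 2 := by rw [← Subgroup.orderOf_coe, hu]
  have hC : Nat.card ↥(centralizer ({(⟨u, hS huE⟩ : (S : Subgroup G))} : Set (S : Subgroup G))) = 4 := by
    rw [← hE4, ← Nat.card_congr (subgroupOfEquivOfLe hS).toEquiv]
    congr 2
    ext g
    rw [mem_centralizer_singleton_iff, mem_subgroupOf]
    refine ⟨fun hg => ?_, fun hg => Subtype.ext ?_⟩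
    · rcases four_eq hP hz hu huz.symm (hcz u (hS huE)).symm (hcz g g.2)
        (congrArg Subtype.val hg) with h | h | h | h <;>
        rw [h]
      exacts [one_mem _, hzE, huE, mul_mem hzE huE]
    · have h1 : (⟨g, hg⟩ : E) * ⟨u, huE⟩ = ⟨u, huE⟩ * ⟨g, hg⟩ :=
        (IsKleinFour.isMulCommutative (G := E)).1.1 _ _
      exact congrArg (fun a : E => (a : G)) h1
  rcases Cfsg.Agent.S3224.result S.isPGroup' ⟨u, hS huE⟩ hu₀ hC with ⟨n, ⟨e⟩⟩ | h | h
  · refine Or.inl ⟨n, ?_, ⟨e⟩⟩
    have h1 : 4 ≤ Nat.card (S : Subgroup G) := hE4 ▸ card_le_of_le hS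
    rw [Nat.card_congr e.toEquiv, DihedralGroup.nat_card] at h1
    omega
  · exact Or.inr h
  · have hSE : E = (S : Subgroup G) := eq_of_le_of_card_ge hS (by omega)
    refine Or.inl ⟨2, le_rfl, ?_⟩
    rw [← hSE]
    exact IsKleinFour.nonempty_mulEquiv

end CfsgLib.SelfCentNoncyclic
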