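import Cfsg.Agent.Lib.Case.FourGroups
import Cfsg.Agent.Lib.Invol.Dihedral
import Mathlib.GroupTheory.FixedPointFree
import Mathlib.GroupTheory.SpecificGroups.KleinFour
import Mathlib.GroupTheory.SpecificGroups.Cyclic
import Mathlib.GroupTheory.Subgroup.Centralizer

/-!
Finite groups in which every non-cyclic subgroup contains its centralizer: elementary consequences.
-/

set_option autoImplicit false

namespace CfsgLib.SelfCentNoncyclic

open Subgroup

variable {G : Type*} [Group G]

/-- Every non-cyclic subgroup contains its centralizer. -/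
def SC (G : Type*) [Group G] : Prop :=
  ∀ H : Subgroup G, ¬ IsCyclic ↥H → centralizer (H : Set G) ≤ H

theorem not_isCyclic_of_not_comm {H : Subgroup G} {a b : G} (ha : a ∈ H) (hb : b ∈ H)
    (h : a * b ≠ b * a) : ¬ IsCyclic H := by
  intro hc
  obtain ⟨g, hg⟩ := hc.exists_generator
  obtain ⟨i, hi⟩ := Subgroup.mem_zpowers_iff.1 (hg ⟨a, ha⟩)
  obtain ⟨j, hj⟩ := Subgroup.mem_zpowers_iff.1 (hg ⟨b, hb⟩)
  have e : (⟨a, ha⟩ : H) * ⟨b, hb⟩ = ⟨b, hb⟩ * ⟨a, ha⟩ := by
    rw [← hi, ← hj, ← zpow_add, ← zpow_add, add_comm]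
  exact h (congrArg Subtype.val e)

theorem mem_of_commute (hP : SC G) {H : Subgroup G} (hH : ¬ IsCyclic H) {c : G}
    (hc : ∀ h ∈ H, h * c = c * h) : c ∈ H :=
  hP H hH (mem_centralizer_iff.2 hc)

theorem four_eq (hP : SC G) {z u g : G} (hz : orderOf z = 2) (hu : orderOf u = 2) (hne : z ≠ u)
    (hzu : z * u = u * z) (hgz : g * z = z * g) (hgu : g * u = u * g) :
    g = 1 ∨ g = z ∨ g = u ∨ g = z * u := by
  have hK := Case.isKleinFour_fourSub (ha := Invol.mul_self_eq_one hz)
    (hb := Invol.mul_self_eq_one hu) (hc := hzu) (Invol.ne_one_of_invol hz)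
    (Invol.ne_one_of_invol hu) hne
  refine Case.mem_fourSub.1 (mem_of_commute hP (IsKleinFour.not_isCyclic) fun h hh => ?_)
  rcases Case.mem_fourSub.1 hh with rfl | rfl | rfl | rfl
  · rw [one_mul, mul_one]
  · exact hgz.symm
  · exact hgu.symm
  · rw [mul_assoc, ← hgu, ← mul_assoc, ← hgz, mul_assoc]

/-- Two commuting involutions have no common centralizing element of odd order. -/
theorem eq_one_of_odd_four (hP : SC G) {z u g : G} (hz : orderOf z = 2) (hu : orderOf u = 2)
    (hne : z ≠ u) (hzu : z * u = u * z) (hgz : g * z = z * g) (hgu : g * u = u * g)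
    (hg : Odd (orderOf g)) : g = 1 := by
  have key : g ^ 2 = 1 := by
    rw [pow_two]
    rcases four_eq hP hz hu hne hzu hgz hgu with rfl | rfl | rfl | rfl
    · exact one_mul 1
    · exact Invol.mul_self_eq_one hz
    · exact Invol.mul_self_eq_one hu
    · rw [mul_assoc, ← mul_assoc u, ← hzu, mul_assoc, Invol.mul_self_eq_one hu, mul_one,
        Invol.mul_self_eq_one hz]
  have h1 : orderOf g ∣ 2 := orderOf_dvd_of_pow_eq_one key
  rcases (Nat.dvd_prime Nat.prime_two).1 h1 with h | h
  · exact orderOf_eq_one_iff.1 h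
  · rw [h] at hg; exact absurd hg (by decide)

/-- A second involution cannot invert an element of odd order centralizing the first. -/
theorem eq_one_of_inverted (hP : SC G) {z u y : G} (hz : orderOf z = 2) (hu : orderOf u = 2)
    (hne : z ≠ u) (hzu : z * u = u * z) (hy : Odd (orderOf y)) (hzy : z * y = y * z)
    (hinv : u * y * u⁻¹ = y⁻¹) : y = 1 := by
  by_contra hy1
  have hcomm : u * y ≠ y * u := by
    intro h
    rw [h, mul_inv_cancel_right] at hinv
    have h1 : orderOf y ∣ 2 := orderOf_dvd_of_pow_eq_one (by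
      rw [pow_two]; nth_rewrite 2 [hinv]; exact mul_inv_cancel y)
    rcases (Nat.dvd_prime Nat.prime_two).1 h1 with h | h
    · exact hy1 (orderOf_eq_one_iff.1 h)
    · rw [h] at hy; exact absurd hy (by decide)
  set H : Subgroup G := closure ({u, y} : Set G) with hH
  have hu' : u ∈ H := subset_closure (by simp)
  have hy' : y ∈ H := subset_closure (by simp)
  have hle : H ≤ centralizer ({z} : Set G) := by
    rw [hH, closure_le]
    rintro a (rfl | rfl) <;> rw [SetLike.mem_coe, mem_centralizer_singleton_iff]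
    · exact hzu.symm
    · exact hzy.symm
  have hzH : z ∈ H := mem_of_commute hP (not_isCyclic_of_not_comm hu' hy' hcomm)
    fun h hh => mem_centralizer_singleton_iff.1 (hle hh)
  have huy : u * y = y⁻¹ * u := mul_inv_eq_iff_eq_mul.1 hinv
  have huy' : u * y⁻¹ = y * u := by
    rw [mul_inv_eq_iff_eq_mul, mul_assoc, huy, ← mul_assoc, mul_inv_cancel, one_mul]
  have huu := Invol.mul_self_eq_one hu
  have hmem : ∀ h ∈ H, ∃ i : ℤ, h = y ^ i ∨ h = y ^ i * u := by
    intro h hh
    induction hh using closure_induction_right with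
    | one => exact ⟨0, Or.inl (zpow_zero y).symm⟩
    | mul_right a _ b hb ih =>
      obtain ⟨i, hi⟩ := ih
      rcases hb with hb | hb <;> rcases hi with rfl | rfl <;> rw [hb]
      · exact ⟨i, Or.inr rfl⟩
      · exact ⟨i, Or.inl (by rw [mul_assoc, huu, mul_one])⟩
      · exact ⟨i + 1, Or.inl (zpow_add_one _ i).symm⟩
      · exact ⟨i - 1, Or.inr (by rw [mul_assoc, huy, ← mul_assoc, ← zpow_sub_one])⟩
    | mul_inv_cancel a _ b hb ih =>
      obtain ⟨i, hi⟩ := ih
      rcases hb with hb | hb <;> rcases hi with rfl | rfl <;> rw [hb]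
      · exact ⟨i, Or.inr (by rw [Invol.inv_eq_self hu])⟩
      · exact ⟨i, Or.inl (by rw [Invol.inv_eq_self hu, mul_assoc, huu, mul_one])⟩
      · exact ⟨i - 1, Or.inl (zpow_sub_one _ i).symm⟩
      · exact ⟨i + 1, Or.inr (by rw [mul_assoc, huy', ← mul_assoc, ← zpow_add_one])⟩
  obtain ⟨i, hi | hi⟩ := hmem z hzH
  · have h1 : orderOf z ∣ orderOf y := by
      rw [hi]; exact orderOf_dvd_of_mem_zpowers (zpow_mem (mem_zpowers y) i)
    rw [hz] at h1
    exact (Nat.not_even_iff_odd.2 hy) (even_iff_two_dvd.2 h1)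
  · refine hcomm ?_
    have hu2 : u = (y ^ i)⁻¹ * z := by rw [hi]; group
    rw [hu2, mul_assoc, hzy, ← mul_assoc, ← mul_assoc]
    congr 1
    rw [← zpow_neg, ← zpow_add_one, ← zpow_one_add, add_comm]

/-- An odd subgroup centralizing `z` and normalized by a second involution is trivial. -/
theorem odd_subgroup_trivial [Finite G] (hP : SC G) {z u : G} (hz : orderOf z = 2)
    (hu : orderOf u = 2) (hne : z ≠ u) (hzu : z * u = u * z) (A : Subgroup G)
    (hA : Odd (Nat.card A)) (hzA : ∀ a ∈ A, z * a = a * z) (hn : ∀ a ∈ A, u * a * u⁻¹ ∈ A) :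
    A = ⊥ := by
  let φ : A →* A :=
    { toFun := fun a => ⟨u * a * u⁻¹, hn a a.2⟩
      map_one' := Subtype.ext (by simp)
      map_mul' := fun a b => Subtype.ext (by simp only [Subgroup.coe_mul]; group) }
  have hodd : ∀ a : A, Odd (orderOf (a : G)) := fun a => by
    rw [Subgroup.orderOf_coe]; exact hA.of_dvd_nat (orderOf_dvd_natCard a)
  have hfix : MonoidHom.FixedPointFree φ := by
    intro a ha
    have e : u * (a : G) * u⁻¹ = a := congrArg Subtype.val ha
    exact Subtype.ext (eq_one_of_odd_four hP hz hu hne hzu (hzA a a.2).symm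
      (mul_inv_eq_iff_eq_mul.1 e).symm (hodd a))
  have hsq : Function.Involutive φ := fun a => Subtype.ext (by
    show u * (u * (a : G) * u⁻¹) * u⁻¹ = a
    rw [← mul_assoc, ← mul_assoc, Invol.mul_self_eq_one hu, one_mul, mul_assoc,
      Invol.inv_eq_self hu, Invol.mul_self_eq_one hu, mul_one])
  have hi := hfix.coe_eq_inv_of_involutive hsq
  rw [eq_bot_iff]
  intro a ha
  exact Subgroup.mem_bot.2 (eq_one_of_inverted hP hz hu hne hzu (hodd ⟨a, ha⟩) (hzA a ha)
    (congrArg Subtype.val (congrFun hi ⟨a, ha⟩)))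

/-- An element of odd order commutes with at most one involution. -/
theorem invol_unique (hP : SC G) {z w y : G} (hz : orderOf z = 2) (hw : orderOf w = 2)
    (hy : Odd (orderOf y)) (hy1 : y ≠ 1) (hyz : y * z = z * y) (hyw : y * w = w * y) : w = z := by
  by_contra hne
  by_cases hzw : z * w = w * z
  · exact hy1 (eq_one_of_odd_four hP hz hw (Ne.symm hne) hzw hyz hyw hy)
  set H : Subgroup G := closure ({z, w} : Set G) with hH
  have hle : H ≤ centralizer ({y} : Set G) := by
    rw [hH, closure_le]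
    rintro a (rfl | rfl) <;> rw [SetLike.mem_coe, mem_centralizer_singleton_iff]
    · exact hyz.symm
    · exact hyw.symm
  have hyH : y ∈ H := mem_of_commute hP
    (not_isCyclic_of_not_comm (subset_closure (by simp)) (subset_closure (by simp)) hzw)
    fun h hh => mem_centralizer_singleton_iff.1 (hle hh)
  have hzz := Invol.mul_self_eq_one hz
  have hww := Invol.mul_self_eq_one hw
  have hsq : y * y = 1 := by
    obtain ⟨k, hk | hk⟩ := (Invol.mem_closure_pair_iff hzz hww).1 hyH
    · have h1 := Invol.conj_zpow_of_inverts (Invol.conj_prod hzz hww) k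
      rw [← hk, zpow_neg, ← hk, ← hyz, mul_inv_cancel_right] at h1
      nth_rewrite 2 [h1]
      exact mul_inv_cancel y
    · rw [hk]
      calc z * (z * w) ^ k * (z * (z * w) ^ k)
          = (z * (z * w) ^ k) * z * (z * w) ^ k := by group
        _ = 1 := by
          rw [mul_assoc z, Invol.zpow_mul_of_inverts (Invol.conj_prod hzz hww), ← mul_assoc, hzz,
            one_mul, ← zpow_add, neg_add_cancel, zpow_zero]
  have h1 : orderOf y ∣ 2 := orderOf_dvd_of_pow_eq_one (by rwa [pow_two])
  rcases (Nat.dvd_prime Nat.prime_two).1 h1 with h | h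
  · exact hy1 (orderOf_eq_one_iff.1 h)
  · rw [h] at hy; exact absurd hy (by decide)

/-- The centralizer of an element of odd order centralizing an involution centralizes it. -/
theorem centralizer_le (hP : SC G) {z y : G} (hz : orderOf z = 2)
    (hy : Odd (orderOf y)) (hy1 : y ≠ 1) (hyz : y * z = z * y) :
    centralizer ({y} : Set G) ≤ centralizer ({z} : Set G) := by
  intro g hg
  rw [mem_centralizer_singleton_iff] at hg ⊢
  refine mul_inv_eq_iff_eq_mul.1 (invol_unique hP hz ?_ hy hy1 hyz ?_)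
  · rw [Invol.orderOf_conj, hz]
  · have hg' : g⁻¹ * y = y * g⁻¹ := by
      rw [inv_mul_eq_iff_eq_mul, ← mul_assoc, hg, mul_inv_cancel_right]
    calc y * (g * z * g⁻¹) = g * (y * z) * g⁻¹ := by rw [← mul_assoc, ← mul_assoc, ← hg, mul_assoc g y z]
      _ = g * z * (y * g⁻¹) := by rw [hyz]; group
      _ = g * z * g⁻¹ * y := by rw [← hg']; group

end CfsgLib.SelfCentNoncyclic
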