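import Cfsg.Agent.Lib.SelfCentNoncyclic.SemiLocal
import Cfsg.Agent.S0213

/-!
A semidihedral Sylow 2-subgroup: the order of the centralizer of the central involution.
-/

set_option autoImplicit false

namespace CfsgLib.SelfCentNoncyclic

open Subgroup CfsgLib.TwoFusion CfsgLib.TwoFusion.QDFusion

variable {G : Type*} [Group G] [Finite G] {S : Sylow 2 G} (D : QDGens (S : Subgroup G))

/-- The central involution as an element of its centralizer. -/
def cc : CC D := ⟨cG D, mem_centralizer_singleton_iff.2 rfl⟩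

theorem cc_mem_center : cc D ∈ center (CC D) :=
  mem_center_iff.2 fun g => Subtype.ext ((mem_CC D).1 g.2)

instance zpowers_cc_normal : (zpowers (cc D)).Normal :=
  ⟨fun n hn g => by
    have h : n ∈ center (CC D) := (zpowers_le.2 (cc_mem_center D)) hn
    rwa [mem_center_iff.1 h g, mul_inv_cancel_right]⟩

/-- The centralizer of `c` modulo `⟨c⟩`. -/
abbrev QQ : Type _ := CC D ⧸ zpowers (cc D)

/-- Image of an element of `S` in the quotient. -/
def bar (s : (S : Subgroup G)) : QQ D := QuotientGroup.mk (⟨s, le_CC D s.2⟩ : CC D)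

theorem bar_mul (s t : (S : Subgroup G)) : bar D (s * t) = bar D s * bar D t := rfl

theorem bar_one : bar D 1 = 1 := rfl

theorem orderOf_cc : orderOf (cc D) = 2 := by
  rw [cc, Subgroup.orderOf_mk, orderOf_cG]

theorem mk_eq_iff {a b : CC D} :
    (QuotientGroup.mk a : QQ D) = QuotientGroup.mk b ↔ (b : G) = a ∨ (b : G) = a * cG D := by
  rw [QuotientGroup.eq]
  constructor
  · intro h
    obtain ⟨i, hi⟩ := mem_zpowers_iff.1 h
    rw [← zpow_mod_orderOf, orderOf_cc] at hi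
    rcases Int.emod_two_eq i with h | h <;> push_cast at hi <;> rw [h] at hi
    · rw [zpow_zero, eq_comm, inv_mul_eq_one] at hi
      exact Or.inl (congrArg Subtype.val hi.symm)
    · rw [zpow_one, eq_comm, inv_mul_eq_iff_eq_mul] at hi
      exact Or.inr (congrArg Subtype.val hi)
  · rintro (h | h)
    · rw [show b = a from Subtype.ext h, inv_mul_cancel]; exact one_mem _
    · rw [show b = a * cc D from Subtype.ext h, inv_mul_cancel_left]; exact mem_zpowers _

theorem bar_eq_iff {s t : (S : Subgroup G)} : bar D s = bar D t ↔ t = s ∨ t = s * D.c := by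
  rw [bar, bar, mk_eq_iff]
  simp only [Subtype.ext_iff, Subgroup.coe_mul]

theorem bar_c : bar D D.c = 1 := by
  rw [← bar_one, bar_eq_iff]
  exact Or.inr D.c_mul_c.symm

theorem bar_q_inv : bar D D.q⁻¹ = bar D D.q := by
  rw [bar_eq_iff]
  refine Or.inr ?_
  rw [← D.q_sq, inv_mul_cancel_left]

theorem bar_mul_self {s : (S : Subgroup G)} (h : s * s = 1 ∨ s * s = D.c) :
    bar D s * bar D s = 1 := by
  rw [← bar_mul]
  rcases h with h | h <;> rw [h]
  exacts [bar_one D, bar_c D]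

theorem bar_q_ne_one : bar D D.q ≠ 1 := by
  rw [← bar_one, Ne, bar_eq_iff]
  have h4 := D.orderOf_q
  rintro (h | h)
  · have h : D.q = 1 := h.symm
    rw [show D.x ^ (2 * D.P) = D.q from rfl, h, orderOf_one] at h4; omega
  · have h2 : D.q = D.c⁻¹ := eq_inv_of_mul_eq_one_left h.symm
    rw [show D.x ^ (2 * D.P) = D.q from rfl, h2, orderOf_inv, D.orderOf_c] at h4; omega

theorem bar_zy_ne_one (i : ℤ) : bar D (D.x ^ i * D.y) ≠ 1 := by
  rw [← bar_one, Ne, bar_eq_iff]
  rintro (h | h)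
  · exact D.zpow_ne_zpow_mul_y 0 i (by rw [zpow_zero, h])
  · exact D.zpow_ne_zpow_mul_y (-(4 * D.P)) i (by
      rw [zpow_neg]; exact (eq_inv_of_mul_eq_one_left h.symm).symm)

theorem orderOf_bar_q : orderOf (bar D D.q) = 2 :=
  Invol.orderOf_eq_two (bar_q_ne_one D) (bar_mul_self D (Or.inr D.q_sq))

theorem orderOf_bar_u : orderOf (bar D (D.x ^ (0 : ℤ) * D.y)) = 2 :=
  Invol.orderOf_eq_two (bar_zy_ne_one D 0)
    (bar_mul_self D (Or.inl (by rw [← pow_two]; exact D.sq_zy_eq_one_iff.2 (dvd_zero 2))))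

theorem isConj_bar {s t : (S : Subgroup G)} {g : G} (hg : g ∈ CC D) (h : g * s * g⁻¹ = t) :
    IsConj (bar D s) (bar D t) := by
  refine isConj_iff.2 ⟨QuotientGroup.mk (⟨g, hg⟩ : CC D), ?_⟩
  show _ = QuotientGroup.mk (⟨t, le_CC D t.2⟩ : CC D)
  rw [bar, ← QuotientGroup.mk_inv, ← QuotientGroup.mk_mul, ← QuotientGroup.mk_mul]
  exact congrArg _ (Subtype.ext h)

theorem isConj_bar_zy {i k : ℤ} (h : 2 ∣ i - k) :
    IsConj (bar D (D.x ^ k * D.y)) (bar D (D.x ^ i * D.y)) := by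
  obtain ⟨s, hs⟩ := D.exists_conj_zy h
  exact isConj_bar D (le_CC D s.2) (congrArg Subtype.val hs)

theorem isConj_bar_odd [IsSimpleGroup G] (hna : ¬ IsMulCommutative G) {i : ℤ} (hi : ¬ 2 ∣ i) :
    IsConj (bar D D.q) (bar D (D.x ^ i * D.y)) := by
  obtain ⟨g, hg, he⟩ := exists_fuse D hna
  exact (isConj_bar D hg he : IsConj (bar D D.q) (bar D (D.x ^ (1 : ℤ) * D.y))).trans
    (isConj_bar_zy D (by omega))

/-- The order of a lift is constant on a conjugacy class. -/
theorem lift_order {s t : (S : Subgroup G)} (hs : orderOf s = 2 ∨ orderOf s = 4)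
    (hsc : s * s = 1 ∨ s * s = D.c) (h : IsConj (bar D s) (bar D t)) (hs1 : s ≠ D.c) :
    orderOf t = orderOf s := by
  obtain ⟨g, hg⟩ := isConj_iff.1 h
  obtain ⟨g, rfl⟩ := QuotientGroup.mk_surjective g
  rw [bar, bar, ← QuotientGroup.mk_inv, ← QuotientGroup.mk_mul, ← QuotientGroup.mk_mul, mk_eq_iff] at hg
  simp only [Subgroup.coe_mul, Subgroup.coe_inv] at hg
  rw [← Subgroup.orderOf_coe t, ← Subgroup.orderOf_coe s]
  rcases hg with e | e
  · rw [e, Invol.orderOf_conj]
  · have hc : (g : G) * cG D * (g : G)⁻¹ = cG D := mul_inv_eq_iff_eq_mul.2 ((mem_CC D).1 g.2)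
    rcases hs with hs | hs
    · have hss : (s : G) * s = 1 := congrArg Subtype.val (Invol.mul_self_eq_one hs)
      rw [e, ← hc, show (g : G) * s * (g : G)⁻¹ * ((g : G) * cG D * (g : G)⁻¹)
        = g * ((s : G) * cG D) * (g : G)⁻¹ by group, Invol.orderOf_conj, Subgroup.orderOf_coe s, hs]
      refine Invol.orderOf_eq_two (fun h0 => hs1 (Subtype.ext ?_)) ?_
      · rw [mul_eq_one_iff_eq_inv.1 h0]
        exact Invol.inv_eq_self (orderOf_cG D)
      · rw [mul_assoc, ← mul_assoc (cG D), cG_comm D s.2, mul_assoc,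
          Invol.mul_self_eq_one (orderOf_cG D), mul_one, hss]
    · have hss : (s : G) * s = cG D := by
        rcases hsc with h' | h'
        · rw [← pow_two] at h'
          have := orderOf_dvd_of_pow_eq_one h'
          rw [hs] at this; omega
        · exact congrArg Subtype.val h'
      have h4 : (s : G) * cG D = (s : G)⁻¹ := by
        refine (inv_eq_of_mul_eq_one_right ?_).symm
        rw [← mul_assoc, hss]
        exact Invol.mul_self_eq_one (orderOf_cG D)
      rw [e, ← hc, show (g : G) * s * (g : G)⁻¹ * ((g : G) * cG D * (g : G)⁻¹)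
        = g * ((s : G) * cG D) * (g : G)⁻¹ by group, Invol.orderOf_conj, h4, orderOf_inv]

theorem not_isConj_q_zy {i : ℤ} (hi : 2 ∣ i) :
    ¬ IsConj (bar D D.q) (bar D (D.x ^ i * D.y)) := fun h => by
  have := lift_order D (Or.inr D.orderOf_q) (Or.inr D.q_sq) h (fun hq => by
    have hq' : D.q = D.c := hq
    have ho := D.orderOf_q
    rw [show D.x ^ (2 * D.P) = D.q from rfl, hq', D.orderOf_c] at ho
    omega)
  rw [D.orderOf_zy_even hi, D.orderOf_q] at this
  omega

theorem not_isConj_u_q : ¬ IsConj (bar D D.q) (bar D (D.x ^ (0 : ℤ) * D.y)) :=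
  not_isConj_q_zy D (dvd_zero 2)

theorem not_isConj_u_zy {i : ℤ} (hi : ¬ 2 ∣ i) :
    ¬ IsConj (bar D (D.x ^ (0 : ℤ) * D.y)) (bar D (D.x ^ i * D.y)) := fun h => by
  have := lift_order D (Or.inl (D.orderOf_zy_even (dvd_zero 2)))
    (Or.inl (by rw [← pow_two]; exact D.sq_zy_eq_one_iff.2 (dvd_zero 2))) h
    (fun hc => D.zpow_ne_zpow_mul_y (4 * D.P) 0 hc.symm)
  rw [D.orderOf_zy_odd hi, D.orderOf_zy_even (dvd_zero 2)] at this
  omega

theorem bar_sq_cases {s : (S : Subgroup G)} (h1 : bar D s ≠ 1) (h2 : bar D s * bar D s = 1) :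
    (bar D s = bar D D.q) ∨ ∃ i : ℤ, s = D.x ^ i * D.y := by
  have h : s * s = 1 ∨ s * s = D.c := by
    rw [← bar_mul, ← bar_one, eq_comm, bar_eq_iff] at h2
    rcases h2 with h | h
    · exact Or.inl h
    · exact Or.inr (by rwa [one_mul] at h)
  obtain ⟨i, hi | hi⟩ := D.normalForm s
  swap; · exact Or.inr ⟨i, hi⟩
  left
  have h4 : s ^ 4 = 1 := by
    rw [show (4 : ℕ) = 2 + 2 from rfl, pow_add, pow_two]
    rcases h with h | h <;> rw [h]
    exacts [one_mul 1, D.c_mul_c]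
  rw [hi] at h4 h1 ⊢
  rcases D.zpow_pow_four_eq_one_iff.1 h4 with e | e | e | e <;> rw [e] at h1 ⊢
  · exact absurd (bar_one D) h1
  · exact absurd (bar_c D) h1
  · exact bar_q_inv D

/-- Every involution of the quotient is fused to `q̄` or to `ū`. -/
theorem invol_cases [IsSimpleGroup G] (hna : ¬ IsMulCommutative G) {t : QQ D}
    (ht : orderOf t = 2) :
    IsConj (bar D D.q) t ∨ IsConj (bar D (D.x ^ (0 : ℤ) * D.y)) t := by
  have : Fact (Nat.Prime 2) := ⟨Nat.prime_two⟩
  obtain ⟨g, rfl⟩ := QuotientGroup.mk_surjective t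
  have hg4 : (g : G) ^ 4 = 1 := by
    have h := Invol.mul_self_eq_one ht
    rw [← QuotientGroup.mk_mul, ← QuotientGroup.mk_one, eq_comm, mk_eq_iff] at h
    rw [show (4 : ℕ) = 2 + 2 from rfl, pow_add, pow_two]
    rcases h with h | h
    · rw [show (g : G) * g = 1 from h, one_mul]
    · rw [show (g : G) * g = cG D by simpa using h, Invol.mul_self_eq_one (orderOf_cG D)]
  have hg2 : IsPGroup 2 (zpowers g) := by
    obtain ⟨e, -, he⟩ := (Nat.dvd_prime_pow Nat.prime_two).1
      (show orderOf g ∣ 2 ^ 2 by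
        rw [← Subgroup.orderOf_coe]; exact orderOf_dvd_of_pow_eq_one hg4)
    exact IsPGroup.of_card (n := e) (by rw [Nat.card_zpowers, he])
  obtain ⟨R, hR⟩ := hg2.exists_le_sylow
  obtain ⟨h, hh⟩ := MulAction.exists_smul_eq (CC D) R (S.subtype (le_CC D))
  set g' : CC D := h * g * h⁻¹ with hg'
  have hmem : g' ∈ ((S.subtype (le_CC D) : Sylow 2 (CC D)) : Subgroup (CC D)) := by
    rw [← hh, Sylow.coe_subgroup_smul]
    exact Subgroup.smul_mem_pointwise_smul _ (MulAut.conj h) _ (hR (mem_zpowers g))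
  set s : (S : Subgroup G) := ⟨(g' : G), hmem⟩
  have hb : bar D s = QuotientGroup.mk g' := rfl
  have hconj : IsConj (QuotientGroup.mk g : QQ D) (bar D s) :=
    isConj_iff.2 ⟨QuotientGroup.mk h, by rw [hb, hg', ← QuotientGroup.mk_inv, ← QuotientGroup.mk_mul,
      ← QuotientGroup.mk_mul]⟩
  have ho : orderOf (bar D s) = 2 := Invol.orderOf_eq_two_of_isConj ht hconj
  rcases bar_sq_cases D (Invol.ne_one_of_invol ho) (Invol.mul_self_eq_one ho) with h | ⟨i, hi⟩
  · rw [h] at hconj; exact Or.inl hconj.symm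
  · rw [hi] at hconj
    by_cases h2 : 2 ∣ i
    · exact Or.inr ((isConj_bar_zy D (i := i) (k := 0) (by simpa using h2)).trans hconj.symm)
    · exact Or.inl ((isConj_bar_odd D hna h2).trans hconj.symm)

theorem commute_bar_q_iff (hP : SC G) (a : QQ D) :
    a * bar D D.q = bar D D.q * a ↔ ∃ s : (S : Subgroup G), a = bar D s := by
  constructor
  · intro h
    obtain ⟨g, rfl⟩ := QuotientGroup.mk_surjective a
    rw [bar, ← QuotientGroup.mk_mul, ← QuotientGroup.mk_mul, mk_eq_iff] at h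
    simp only [Subgroup.coe_mul] at h
    suffices hs : (g : G) ∈ (S : Subgroup G) from ⟨⟨g, hs⟩, rfl⟩
    have hC := centralizer_qG D hP
    have hxS : zpowers ((D.x : (S : Subgroup G)) : G) ≤ S := zpowers_le.2 D.x.2
    rcases h with h | h
    · exact hxS (hC ▸ mem_centralizer_singleton_iff.2 (h.symm))
    · have hu : vG D 0 * (g : G) ∈ centralizer ({qG D} : Set G) := by
        rw [mem_centralizer_singleton_iff]
        have hgc := (mem_CC D).1 g.2
        have h' : qG D * (g : G) = (g : G) * qG D * cG D := h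
        have hcc := Invol.mul_self_eq_one (orderOf_cG D)
        have h5 : (g : G) * qG D = qG D * (cG D * g) := by
          rw [← hgc, ← mul_assoc, h', mul_assoc, hcc, mul_one]
        have h6 : vG D 0 * qG D = qG D * cG D * vG D 0 := by
          rw [← qG_inv, ← mul_inv_eq_iff_eq_mul, u_conj_q]
        rw [mul_assoc, h5, ← mul_assoc, h6]
        simp only [mul_assoc]
        rw [← mul_assoc (vG D 0) (cG D), ← c_u, mul_assoc, ← mul_assoc (cG D) (cG D), hcc, one_mul]
      have := hxS (hC ▸ hu)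
      exact ((S : Subgroup G).mul_mem_cancel_left (vG_mem D 0)).1 this
  · rintro ⟨s, rfl⟩
    rw [← bar_mul, ← bar_mul, bar_eq_iff]
    obtain ⟨i, rfl | rfl⟩ := D.normalForm s
    · exact Or.inl (by rw [← zpow_add, ← zpow_add, add_comm])
    · refine Or.inr ?_
      have h := mul_inv_eq_iff_eq_mul.1 (D.zy_conj_q i)
      have h2 : D.q⁻¹ * D.c = D.q := by rw [← D.q_sq, inv_mul_cancel_left]
      rw [h, mul_assoc, ← D.c_comm]
      simp only [← mul_assoc]
      rw [show D.q⁻¹ * D.x ^ (4 * D.P) = D.q from h2]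

theorem commute_bar_u_iff (hP : SC G) (a : QQ D) :
    a * bar D (D.x ^ (0 : ℤ) * D.y) = bar D (D.x ^ (0 : ℤ) * D.y) * a ↔
      a = 1 ∨ a = bar D D.q ∨ a = bar D (D.x ^ (0 : ℤ) * D.y) ∨
        a = bar D D.q * bar D (D.x ^ (0 : ℤ) * D.y) := by
  set v := bar D (D.x ^ (0 : ℤ) * D.y) with hv
  constructor
  · intro h
    obtain ⟨g, rfl⟩ := QuotientGroup.mk_surjective a
    rw [hv, bar, ← QuotientGroup.mk_mul, ← QuotientGroup.mk_mul, mk_eq_iff] at h
    simp only [Subgroup.coe_mul] at h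
    have hfour : ∀ k : CC D, (k : G) * vG D 0 = vG D 0 * k →
        (QuotientGroup.mk k : QQ D) = 1 ∨ (QuotientGroup.mk k : QQ D) = v := by
      intro k hk
      rcases four_u D hP k.2 hk with e | e | e | e
      · left; rw [show k = 1 from Subtype.ext e]; rfl
      · left; rw [← QuotientGroup.mk_one, eq_comm, mk_eq_iff]; exact Or.inr (by simpa using e)
      · right; rw [hv, bar]; exact congrArg _ (Subtype.ext e)
      · right; rw [hv, bar, eq_comm, mk_eq_iff]; exact Or.inr (by rw [e, c_u])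
    rcases h with h | h
    · rcases hfour g h.symm with e | e <;> simp [e]
    · set q' : CC D := ⟨qG D, le_CC D (qG_mem D)⟩
      have hk : ((q'⁻¹ * g : CC D) : G) * vG D 0 = vG D 0 * (q'⁻¹ * g : CC D) := by
        have h1 := q_conj_u D
        have h2 : vG D 0 * (g : G) = (g : G) * vG D 0 * cG D := h
        have hgc := (mem_CC D).1 g.2
        show (qG D)⁻¹ * (g : G) * vG D 0 = vG D 0 * ((qG D)⁻¹ * g)
        have h3 : (g : G) * vG D 0 = cG D * vG D 0 * g := by
          rw [mul_assoc (cG D), h2, ← mul_assoc, ← mul_assoc, ← hgc, mul_assoc (g : G) (cG D),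
            c_u, ← mul_assoc, mul_assoc _ (cG D), Invol.mul_self_eq_one (orderOf_cG D), mul_one]
        rw [mul_assoc, h3, ← h1]
        group
      rcases hfour _ hk with e | e <;> rw [QuotientGroup.mk_mul, QuotientGroup.mk_inv,
        inv_mul_eq_iff_eq_mul] at e
      · rw [mul_one] at e; exact Or.inr (Or.inl e)
      · exact Or.inr (Or.inr (Or.inr e))
  · have hvv : bar D D.q * v = v * bar D D.q :=
      ((commute_bar_q_iff D hP v).2 ⟨_, rfl⟩).symm
    rintro (rfl | rfl | rfl | rfl)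
    · rw [one_mul, mul_one]
    · exact hvv
    · rfl
    · rw [← mul_assoc, ← hvv]

theorem card_centralizer_bar_q (hP : SC G) :
    Nat.card (centralizer ({bar D D.q} : Set (QQ D))) = 8 * 2 ^ D.p := by
  set S₀ : Subgroup (CC D) := (S : Subgroup G).subgroupOf (CC D) with hS₀
  have hcS : zpowers (cc D) ≤ S₀ := zpowers_le.2 (D.c).2
  have himg : centralizer ({bar D D.q} : Set (QQ D)) = S₀.map (QuotientGroup.mk' (zpowers (cc D))) := by
    ext a
    rw [mem_centralizer_singleton_iff, commute_bar_q_iff D hP]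
    constructor
    · rintro ⟨s, rfl⟩
      exact ⟨⟨s, le_CC D s.2⟩, s.2, rfl⟩
    · rintro ⟨g, hg, rfl⟩
      exact ⟨⟨g, hg⟩, rfl⟩
  have h := ((QuotientGroup.mk' (zpowers (cc D))).domRestrict S₀).ker.card_mul_index
  rw [Subgroup.index_ker, MonoidHom.domRestrict_range, MonoidHom.ker_domRestrict, QuotientGroup.ker_mk',
    Nat.card_congr (subgroupOfEquivOfLe hcS).toEquiv, Nat.card_zpowers, orderOf_cc,
    Nat.card_congr (subgroupOfEquivOfLe (le_CC D)).toEquiv, D.hcard] at h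
  rw [himg]
  exact Nat.eq_of_mul_eq_mul_left two_pos (h.trans (by ring))

theorem card_centralizer_bar_u (hP : SC G) :
    Nat.card (centralizer ({bar D (D.x ^ (0 : ℤ) * D.y)} : Set (QQ D))) = 4 := by
  have hc : bar D D.q * bar D (D.x ^ (0 : ℤ) * D.y) = bar D (D.x ^ (0 : ℤ) * D.y) * bar D D.q :=
    ((commute_bar_q_iff D hP _).2 ⟨_, rfl⟩).symm
  have hK := Case.isKleinFour_fourSub (ha := Invol.mul_self_eq_one (orderOf_bar_q D))
    (hb := Invol.mul_self_eq_one (orderOf_bar_u D)) (hc := hc) (bar_q_ne_one D) (bar_zy_ne_one D 0)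
    (fun h => not_isConj_u_q D (h ▸ IsConj.refl _))
  rw [show centralizer ({bar D (D.x ^ (0 : ℤ) * D.y)} : Set (QQ D)) =
    Case.fourSub _ _ (Invol.mul_self_eq_one (orderOf_bar_q D))
      (Invol.mul_self_eq_one (orderOf_bar_u D)) hc from by
    ext a
    rw [mem_centralizer_singleton_iff, commute_bar_u_iff D hP, Case.mem_fourSub]]
  exact IsKleinFour.card_four

/-- Both members of a pair with `x` in the cyclic group of their product commute with `x`. -/
theorem commute_of_mem {H : Type*} [Group H] {a b x : H} (ha : a * a = 1) (hb : b * b = 1)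
    (hx : x * x = 1) (h : x ∈ zpowers (a * b)) : a * x = x * a ∧ b * x = x * b := by
  obtain ⟨k, rfl⟩ := mem_zpowers_iff.1 h
  have hinv : ((a * b) ^ k)⁻¹ = (a * b) ^ k := inv_eq_of_mul_eq_one_right hx
  have h1 : a * (a * b) ^ k = (a * b) ^ k * a := by
    have := Invol.mul_zpow_of_inverts (Invol.conj_prod ha hb) k
    rwa [zpow_neg, hinv] at this
  refine ⟨h1, ?_⟩
  have h2 : Commute (a * b) ((a * b) ^ k) := Commute.self_zpow _ k
  have h3 := ((show Commute a ((a * b) ^ k) from h1).mul_left h2).eq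
  rwa [← mul_assoc, ha, one_mul] at h3

theorem eq_of_mem_zpowers_invol {H : Type*} [Group H] {a x : H} (ha : a * a = 1)
    (h : x ∈ zpowers a) : x = 1 ∨ x = a := by
  obtain ⟨k, rfl⟩ := mem_zpowers_iff.1 h
  have h2 : a ^ (2 : ℤ) = 1 := by rw [zpow_two, ha]
  obtain ⟨t, rfl | rfl⟩ := Int.even_or_odd' k
  · left; rw [zpow_mul, h2, one_zpow]
  · right; rw [zpow_add_one, zpow_mul, h2, one_zpow, one_mul]

/-- The reflection `x ^ (2 k + e) * y` of the quotient. -/
def refl (e : ℤ) (k : ℕ) : QQ D := bar D (D.x ^ (2 * (k : ℤ) + e) * D.y)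

theorem refl_inj (e : ℤ) {k l : ℕ} (hk : k < 2 * 2 ^ D.p) (hl : l < 2 * 2 ^ D.p)
    (h : refl D e k = refl D e l) : k = l := by
  have hP : D.P = ((2 ^ D.p : ℕ) : ℤ) := by rw [D.hP]; push_cast; rfl
  have hP0 := D.P_pos
  have hd : 4 * D.P ∣ 2 * ((k : ℤ) - l) := by
    rw [refl, refl, bar_eq_iff] at h
    rcases h with h | h
    · rw [D.zy_eq_iff] at h
      obtain ⟨c, hc⟩ := h
      exact ⟨-(2 * c), by linear_combination -hc⟩
    · rw [D.zy_mul, D.zy_eq_iff] at h
      obtain ⟨c, hc⟩ := h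
      exact ⟨-(2 * c + (4 * D.P - 1)), by linear_combination -hc⟩
  have hd' : 2 * D.P ∣ (k : ℤ) - l :=
    (mul_dvd_mul_iff_left (two_ne_zero' ℤ)).1 (by rwa [← mul_assoc])
  have habs : |(k : ℤ) - l| < 2 * D.P := by
    rw [abs_lt, hP]; constructor <;> omega
  have := Int.eq_zero_of_abs_lt_dvd hd' habs
  omega

theorem exists_refl (e i : ℤ) (h : 2 ∣ i - e) :
    ∃ k, k < 2 * 2 ^ D.p ∧ bar D (D.x ^ i * D.y) = refl D e k := by
  obtain ⟨m, hm⟩ := h
  have hP : D.P = ((2 ^ D.p : ℕ) : ℤ) := by rw [D.hP]; push_cast; rfl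
  have hP0 := D.P_pos
  have h0 := Int.emod_nonneg m (show 2 * D.P ≠ 0 by omega)
  have h1 := Int.emod_lt_of_pos m (show 0 < 2 * D.P by omega)
  have h2 := Int.emod_add_mul_ediv m (2 * D.P)
  refine ⟨(m % (2 * D.P)).toNat, by omega, ?_⟩
  rw [refl, Int.toNat_of_nonneg h0, bar_eq_iff]
  set t := m / (2 * D.P)
  obtain ⟨a, ha | ha⟩ := Int.even_or_odd' t
  · left
    rw [D.zy_eq_iff]
    exact ⟨-a, by linear_combination (2 * h2) - hm - 4 * D.P * ha⟩
  · right
    rw [D.zy_mul, D.zy_eq_iff]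
    exact ⟨-a - 2 * D.P, by linear_combination (2 * h2) - hm - 4 * D.P * ha⟩

theorem q_mem_zpowers (m : ℤ) (hm : ¬ 2 ∣ m) : D.q ∈ zpowers (D.x ^ m) := by
  obtain ⟨a, b, hab⟩ := D.odd_coprime hm
  refine mem_zpowers_iff.2 ⟨2 * D.P * b, ?_⟩
  rw [← zpow_mul, D.zpow_eq_iff]
  exact ⟨-(2 * D.P * a), by linear_combination (2 * D.P) * hab⟩

theorem card_pairs_q [IsSimpleGroup G] (hna : ¬ IsMulCommutative G) (hP : SC G) :
    Nat.card {p : QQ D × QQ D // IsConj (bar D D.q) p.1 ∧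
      IsConj (bar D (D.x ^ (0 : ℤ) * D.y)) p.2 ∧ bar D D.q ∈ zpowers (p.1 * p.2)}
      = (2 * 2 ^ D.p) * (2 * 2 ^ D.p) := by
  have key : ∀ kl : Fin (2 * 2 ^ D.p) × Fin (2 * 2 ^ D.p),
      IsConj (bar D D.q) (refl D 1 kl.1) ∧
      IsConj (bar D (D.x ^ (0 : ℤ) * D.y)) (refl D 0 kl.2) ∧
      bar D D.q ∈ zpowers (refl D 1 kl.1 * refl D 0 kl.2) := by
    intro kl
    refine ⟨isConj_bar_odd D hna (by omega), isConj_bar_zy D ⟨(kl.2 : ℕ), by ring⟩, ?_⟩
    rw [refl, refl, ← bar_mul, D.zy_mul_zy]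
    obtain ⟨j, hj⟩ := mem_zpowers_iff.1 (q_mem_zpowers D
      (2 * ((kl.1 : ℕ) : ℤ) + 1 + (4 * D.P - 1) * (2 * ((kl.2 : ℕ) : ℤ) + 0))
      (by intro ⟨c, hc⟩
          have : (1 : ℤ) = 2 * (c - (kl.1 : ℕ) - (4 * D.P - 1) * (kl.2 : ℕ)) := by linear_combination hc
          omega))
    refine mem_zpowers_iff.2 ⟨j, ?_⟩
    exact (map_zpow ({ toFun := bar D, map_one' := bar_one D, map_mul' := bar_mul D } :
      (S : Subgroup G) →* QQ D) _ j).symm.trans (congrArg (bar D) hj)
  refine (Nat.card_eq_of_bijective (fun kl => (⟨(refl D 1 kl.1, refl D 0 kl.2), key kl⟩ :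
    {p : QQ D × QQ D // IsConj (bar D D.q) p.1 ∧
      IsConj (bar D (D.x ^ (0 : ℤ) * D.y)) p.2 ∧ bar D D.q ∈ zpowers (p.1 * p.2)})) ⟨?_, ?_⟩).symm.trans ?_
  · intro a b h
    have h' := congrArg Subtype.val h
    simp only [Prod.mk.injEq] at h'
    exact Prod.ext (Fin.ext (refl_inj D 1 a.1.2 b.1.2 h'.1)) (Fin.ext (refl_inj D 0 a.2.2 b.2.2 h'.2))
  · rintro ⟨⟨a, b⟩, ha, hb, hab⟩
    have hao := Invol.orderOf_eq_two_of_isConj (orderOf_bar_q D) ha
    have hbo := Invol.orderOf_eq_two_of_isConj (orderOf_bar_u D) hb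
    obtain ⟨hac, hbc⟩ := commute_of_mem (Invol.mul_self_eq_one hao) (Invol.mul_self_eq_one hbo)
      (Invol.mul_self_eq_one (orderOf_bar_q D)) hab
    obtain ⟨sb, rfl⟩ := (commute_bar_q_iff D hP b).1 hbc
    obtain ⟨sa, rfl⟩ := (commute_bar_q_iff D hP a).1 hac
    have hbq : bar D sb ≠ bar D D.q := fun h => not_isConj_u_q D ((h ▸ hb).symm)
    rcases bar_sq_cases D (Invol.ne_one_of_invol hbo) (Invol.mul_self_eq_one hbo) with h | ⟨j, rfl⟩
    · exact absurd h hbq
    have hj : 2 ∣ j := by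
      by_contra h; exact not_isConj_u_zy D h hb
    rcases bar_sq_cases D (Invol.ne_one_of_invol hao) (Invol.mul_self_eq_one hao) with h | ⟨i, rfl⟩
    · exfalso
      simp only [h] at hab
      have h2 : bar D D.q * bar D (D.x ^ j * D.y) * (bar D D.q * bar D (D.x ^ j * D.y)) = 1 := by
        rw [mul_assoc, ← mul_assoc (bar D (D.x ^ j * D.y)), hbc, mul_assoc (bar D D.q),
          Invol.mul_self_eq_one hbo, mul_one, Invol.mul_self_eq_one (orderOf_bar_q D)]
      rcases eq_of_mem_zpowers_invol h2 hab with e | e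
      · exact bar_q_ne_one D e
      · exact Invol.ne_one_of_invol hbo (mul_left_cancel (e.symm.trans (mul_one _).symm))
    have hi : ¬ 2 ∣ i := fun h => not_isConj_q_zy D h ha
    obtain ⟨k, hk, hk'⟩ := exists_refl D 1 i (by omega)
    obtain ⟨l, hl, hl'⟩ := exists_refl D 0 j (by simpa using hj)
    exact ⟨(⟨k, hk⟩, ⟨l, hl⟩), Subtype.ext (Prod.ext hk'.symm hl'.symm)⟩
  · rw [Nat.card_prod, Nat.card_fin]

theorem card_pairs_u (hP : SC G) :
    Nat.card {p : QQ D × QQ D // IsConj (bar D D.q) p.1 ∧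
      IsConj (bar D (D.x ^ (0 : ℤ) * D.y)) p.2 ∧
        bar D (D.x ^ (0 : ℤ) * D.y) ∈ zpowers (p.1 * p.2)} = 1 := by
  set v := bar D (D.x ^ (0 : ℤ) * D.y) with hv
  set w := bar D D.q with hw
  have hwv : bar D (D.q * (D.x ^ (0 : ℤ) * D.y)) = w * v := bar_mul D _ _
  have heven : (2 : ℤ) ∣ 2 * D.P + 0 := ⟨D.P, by ring⟩
  have hwv' : w * v = bar D (D.x ^ (2 * D.P + 0) * D.y) := by
    rw [← hwv]; exact congrArg (bar D) (D.mul_zy _ _)
  have hnc : ¬ IsConj w (w * v) := hwv' ▸ not_isConj_q_zy D heven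
  have hvwv : IsConj v (w * v) := hwv' ▸ isConj_bar_zy D (by simpa using heven)
  have hww := Invol.mul_self_eq_one (orderOf_bar_q D)
  rw [← hw] at hww
  have hgood : IsConj w w ∧ IsConj v (w * v) ∧ v ∈ zpowers (w * (w * v)) := by
    refine ⟨IsConj.refl _, hvwv, ?_⟩
    rw [← mul_assoc, hww, one_mul]
    exact mem_zpowers v
  rw [Nat.card_eq_one_iff_unique]
  refine ⟨⟨?_⟩, ⟨⟨(w, w * v), hgood⟩⟩⟩
  suffices h : ∀ p : {p : QQ D × QQ D // IsConj w p.1 ∧ IsConj v p.2 ∧ v ∈ zpowers (p.1 * p.2)},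
      p.1 = (w, w * v) from fun p p' => Subtype.ext ((h p).trans (h p').symm)
  rintro ⟨⟨a, b⟩, ha, hb, hab⟩
  have hvo : orderOf v = 2 := orderOf_bar_u D
  have hao := Invol.orderOf_eq_two_of_isConj (orderOf_bar_q D) ha
  have hbo := Invol.orderOf_eq_two_of_isConj hvo hb
  obtain ⟨hac, hbc⟩ := commute_of_mem (Invol.mul_self_eq_one hao) (Invol.mul_self_eq_one hbo)
    (Invol.mul_self_eq_one hvo) hab
  have haw : a = w := by
    rcases (commute_bar_u_iff D hP a).1 hac with e | e | e | e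
    · exact absurd e (Invol.ne_one_of_invol hao)
    · exact e
    · exact absurd (e ▸ ha) (not_isConj_u_q D)
    · exact absurd (e ▸ ha) hnc
  subst haw
  rcases (commute_bar_u_iff D hP b).1 hbc with e | e | e | e
  · exact absurd e (Invol.ne_one_of_invol hbo)
  · exact absurd (e ▸ hb).symm (not_isConj_u_q D)
  · exfalso
    simp only [e] at hab
    rcases eq_of_mem_zpowers_invol (a := w * v) (Invol.mul_self_eq_one
      (Invol.orderOf_eq_two_of_isConj hvo hvwv)) hab with e' | e'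
    · exact Invol.ne_one_of_invol hvo e'
    · exact bar_q_ne_one D (mul_right_cancel (e'.symm.trans (one_mul v).symm))
  · exact Prod.ext rfl e

/-- The order of the centralizer of the central involution. -/
theorem card_CC [IsSimpleGroup G] (hna : ¬ IsMulCommutative G) (hP : SC G) :
    Nat.card (CC D) = 16 * 2 ^ D.p * (2 * 2 ^ D.p + 1) := by
  have h := Cfsg.Agent.S0213.result (bar D D.q) (bar D (D.x ^ (0 : ℤ) * D.y)) (orderOf_bar_q D)
    (orderOf_bar_u D) (not_isConj_u_q D) (fun t => invol_cases D hna)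
  rw [card_centralizer_bar_q D hP, card_centralizer_bar_u D hP, card_pairs_q D hna hP,
    card_pairs_u D hP] at h
  rw [Subgroup.card_eq_card_quotient_mul_card_subgroup (zpowers (cc D)), Nat.card_zpowers,
    orderOf_cc, h]
  ring

end CfsgLib.SelfCentNoncyclic
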