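import Cfsg.Agent.Lib.SelfCentNoncyclic.SemiCount
import Cfsg.Agent.Lib.InvChar.RankOneInter.Final
import Cfsg.Agent.Lib.Char.Burnside
import Cfsg.Agent.S0197

/-!
A simple group with self-centralizing non-cyclic subgroups has no semidihedral Sylow 2-subgroup.
-/

set_option autoImplicit false

namespace CfsgLib.SelfCentNoncyclic

open Subgroup CfsgLib.TwoFusion CfsgLib.TwoFusion.QDFusion

variable {G : Type*} [Group G] [Finite G] {S : Sylow 2 G} (D : QDGens (S : Subgroup G))

/-- The Sylow subgroup inside the centralizer. -/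
abbrev S0 : Subgroup (CC D) := (S : Subgroup G).subgroupOf (CC D)

theorem card_S0 : Nat.card (S0 D) = 16 * 2 ^ D.p := by
  rw [Nat.card_congr (subgroupOfEquivOfLe (le_CC D)).toEquiv, D.hcard]
  ring

theorem eight_dvd : (8 : ℤ) * D.P = ((8 * 2 ^ D.p : ℕ) : ℤ) := by rw [D.hP]; push_cast; rfl

/-- An element of `S` of order at least eight is a power of `x`. -/
theorem mem_zpowers_x {s : (S : Subgroup G)} (h : 8 ≤ orderOf s) : s ∈ zpowers D.x := by
  obtain ⟨i, rfl | rfl⟩ := D.normalForm s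
  · exact zpow_mem (mem_zpowers _) i
  · by_cases h2 : 2 ∣ i
    · rw [D.orderOf_zy_even h2] at h; omega
    · rw [D.orderOf_zy_odd h2] at h; omega

/-- If a conjugation sends an element of order at least eight of `⟨x⟩` with `q` among its powers
into `S`, it cannot send `q` to `x * y`. -/
theorem no_fuse {g : G} {m : ℤ} (hS : g * (D.x ^ m : (S : Subgroup G)) * g⁻¹ ∈ (S : Subgroup G))
    (ho : 8 ≤ orderOf (D.x ^ m)) (hq : D.q ∈ zpowers (D.x ^ m))
    (hfuse : g * qG D * g⁻¹ = vG D 1) : False := by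
  set t : (S : Subgroup G) := ⟨_, hS⟩
  have ht : t ∈ zpowers D.x := mem_zpowers_x D (by
    rw [show orderOf t = orderOf (D.x ^ m) by rw [Subgroup.orderOf_mk, Invol.orderOf_conj, Subgroup.orderOf_coe]]
    exact ho)
  obtain ⟨i, hi⟩ := mem_zpowers_iff.1 ht
  obtain ⟨k, hk⟩ := mem_zpowers_iff.1 hq
  refine D.zpow_ne_zpow_mul_y (i * k) 1 (Subtype.ext ?_)
  rw [zpow_mul, hi, SubgroupClass.coe_zpow, show ((D.x ^ (1 : ℤ) * D.y : (S : Subgroup G)) : G)
    = g * qG D * g⁻¹ from hfuse.symm]
  show (g * (D.x ^ m : (S : Subgroup G)) * g⁻¹) ^ k = g * (D.q : (S : Subgroup G)) * g⁻¹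
  rw [conj_zpow, ← SubgroupClass.coe_zpow, hk]

theorem p_eq_zero [IsSimpleGroup G] (hna : ¬ IsMulCommutative G) (hP : SC G) : D.p = 0 := by
  by_contra hp
  have hcard := card_CC D hna hP
  have hidx : (S0 D).index = 2 * 2 ^ D.p + 1 := by
    have h := (S0 D).card_mul_index
    rw [hcard, card_S0] at h
    exact Nat.eq_of_mul_eq_mul_left (by positivity) h
  obtain ⟨r, hr⟩ : ∃ r, D.p = r + 1 := ⟨D.p - 1, by omega⟩
  set x' : CC D := ⟨(D.x : (S : Subgroup G)), le_CC D D.x.2⟩ with hx'
  have hxo : orderOf x' = 2 ^ (D.p + 3) := by rw [hx', Subgroup.orderOf_mk, Subgroup.orderOf_coe, D.hord]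
  set σ := MulAction.toPermHom (CC D) (CC D ⧸ S0 D) x' with hσ
  have hσ1 : σ ^ (2 * 2 ^ D.p) = 1 := by
    refine Equiv.ext fun a => ?_
    have hper : Function.minimalPeriod (⇑σ) a ∣ 2 ^ (D.p + 3) := by
      refine Function.IsPeriodicPt.minimalPeriod_dvd ?_
      show (⇑σ)^[2 ^ (D.p + 3)] a = a
      rw [← Equiv.Perm.coe_pow, hσ, ← map_pow, ← hxo, pow_orderOf_eq_one, map_one]
      rfl
    obtain ⟨j, -, hj⟩ := (Nat.dvd_prime_pow Nat.prime_two).1 hper
    have hle : Function.minimalPeriod (⇑σ) a ≤ 2 * 2 ^ D.p + 1 := by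
      have : Fintype (CC D ⧸ S0 D) := Fintype.ofFinite _
      rw [← hidx, Subgroup.index, Nat.card_eq_fintype_card]
      exact Function.minimalPeriod_le_card
    have hjp : j ≤ D.p + 1 := by
      by_contra hc
      have h2 : 2 ^ (D.p + 2) ≤ 2 ^ j := Nat.pow_le_pow_right (by norm_num) (by omega)
      rw [hj] at hle
      have := Nat.one_le_two_pow (n := r)
      rw [hr, pow_succ, pow_succ, pow_succ] at h2
      rw [hr, pow_succ] at hle
      omega
    have hd : Function.minimalPeriod (⇑σ) a ∣ 2 * 2 ^ D.p := by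
      rw [hj, ← pow_succ']; exact Nat.pow_dvd_pow 2 hjp
    rw [Equiv.Perm.coe_one, id, Equiv.Perm.coe_pow]
    exact (Function.isPeriodicPt_minimalPeriod _ a).trans_dvd hd
  set q' : CC D := ⟨qG D, le_CC D (qG_mem D)⟩ with hq'
  have hqx : q' = x' ^ (2 * 2 ^ D.p) := by
    refine Subtype.ext ?_
    show qG D = ((D.x : (S : Subgroup G)) : G) ^ (2 * 2 ^ D.p)
    rw [← SubgroupClass.coe_pow]
    refine congrArg Subtype.val ?_
    show D.x ^ (2 * D.P) = _
    rw [← zpow_natCast]
    congr 1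
    rw [D.hP]; push_cast; rfl
  have hqN : q' ∈ (S0 D).normalCore := by
    rw [normalCore_eq_ker, MonoidHom.mem_ker, hqx, map_pow, ← hσ, hσ1]
  obtain ⟨g, hg, hfuse⟩ := exists_fuse D hna
  set N := (S0 D).normalCore
  have hv : ∀ i : ℤ, ¬ 2 ∣ i → (⟨vG D i, le_CC D (vG_mem D i)⟩ : CC D) ∈ N := by
    intro i hi
    obtain ⟨s, hs⟩ := D.exists_conj_zy (i := i) (k := 1) (by omega)
    have h := (inferInstance : N.Normal).conj_mem q' hqN (⟨(s : G), le_CC D s.2⟩ * ⟨g, hg⟩)
    convert h using 1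
    refine Subtype.ext ?_
    show vG D i = (s : G) * g * qG D * ((s : G) * g)⁻¹
    rw [show (s : G) * g * qG D * ((s : G) * g)⁻¹ = (s : G) * (g * qG D * g⁻¹) * (s : G)⁻¹ by group,
      hfuse]
    exact (congrArg Subtype.val hs).symm
  set m : ℤ := 1 + (4 * D.P - 1) * 3 with hm
  set t : CC D := ⟨((D.x ^ m : (S : Subgroup G)) : G), le_CC D (D.x ^ m : (S : Subgroup G)).2⟩ with ht
  have htN : t ∈ N := by
    have h := N.mul_mem (hv 1 (by omega)) (hv 3 (by omega))
    convert h using 1
    refine Subtype.ext ?_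
    show ((D.x ^ m : (S : Subgroup G)) : G) = vG D 1 * vG D 3
    exact congrArg Subtype.val (D.zy_mul_zy 1 3).symm
  have hfS : g * (D.x ^ m : (S : Subgroup G)) * g⁻¹ ∈ (S : Subgroup G) :=
    (S0 D).normalCore_le ((inferInstance : N.Normal).conj_mem t htN ⟨g, hg⟩)
  have hPr : D.P = 2 * 2 ^ r := by rw [D.hP, hr, pow_succ, mul_comm]
  have hqm : D.q ∈ zpowers (D.x ^ m) := by
    obtain ⟨a, b, hab⟩ := D.odd_coprime (t := 6 * D.P - 1) (by rw [hPr]; omega)
    refine mem_zpowers_iff.2 ⟨D.P * b, ?_⟩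
    rw [← zpow_mul, D.zpow_eq_iff, hm]
    exact ⟨-(2 * D.P * a), by linear_combination (2 * D.P) * hab⟩
  refine no_fuse D hfS ?_ hqm hfuse
  have h4 : 4 ∣ orderOf (D.x ^ m) := by
    have := orderOf_dvd_of_mem_zpowers hqm
    rwa [D.orderOf_q] at this
  by_contra hlt
  push Not at hlt
  obtain ⟨k, hk⟩ := h4
  have h0 := orderOf_pos (D.x ^ m)
  have hk1 : orderOf (D.x ^ m) = 4 := by omega
  have h1 : (D.x ^ m) ^ 4 = 1 := hk1 ▸ pow_orderOf_eq_one _
  rw [← zpow_natCast, ← zpow_mul, D.zpow_eq_one_iff, hm, hPr] at h1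
  obtain ⟨c, hc⟩ := h1
  push_cast at hc
  have hT : (0 : ℤ) < 2 ^ r := by positivity
  have h2 : (12 : ℤ) * 2 ^ r - 1 = 2 * 2 ^ r * c := by linarith
  obtain ⟨w, hw⟩ : ∃ w : ℤ, w = 2 ^ r * c := ⟨_, rfl⟩
  rw [mul_assoc, ← hw] at h2
  omega

theorem exists_gl23 [IsSimpleGroup G] (hna : ¬ IsMulCommutative G) (hP : SC G) :
    Nat.card (CC D) = 48 ∧
      Nonempty (CC D ≃* Matrix.GeneralLinearGroup (Fin 2) (ZMod 3)) := by
  have : Fact (Nat.Prime 2) := ⟨Nat.prime_two⟩
  have hp := p_eq_zero D hna hP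
  have hcard : Nat.card (CC D) = 48 := by rw [card_CC D hna hP, hp]; norm_num
  refine ⟨hcard, ?_⟩
  have hsolv : Group.IsSolvable (CC D) :=
    Char.isSolvable_of_card_eq_prime_pow_mul (a := 4) (b := 1) Nat.prime_two Nat.prime_three
      (by rw [hcard]; norm_num)
  have hO : Cfsg.oddCore (CC D) = ⊥ := by
    rw [← Subgroup.map_eq_bot_iff_of_injective _ (subtype_injective _)]
    refine odd_subgroup_trivial hP (orderOf_cG D) (orderOf_u D) (vG_ne_cG S D 0).symm (c_u D) _ ?_ ?_ ?_
    · rw [card_map_of_injective (subtype_injective _)]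
      exact Nat.coprime_two_right.1 (Solvable.pPrimeCore_card_coprime 2 _)
    · rintro _ ⟨a, -, rfl⟩
      exact ((mem_CC D).1 a.2).symm
    · rintro _ ⟨a, ha, rfl⟩
      exact ⟨⟨vG D 0, le_CC D (vG_mem D 0)⟩ * a * (⟨vG D 0, le_CC D (vG_mem D 0)⟩ : CC D)⁻¹,
        (Solvable.pPrimeCore_normal 2 _).conj_mem a ha _, rfl⟩
  set S₀ : Sylow 2 (CC D) := S.subtype (le_CC D)
  have hS16 : ∀ R : Sylow 2 (CC D), Nat.card (R : Subgroup (CC D)) = 16 := fun R => by
    rw [Nat.card_congr (R.equiv S₀).toEquiv]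
    show Nat.card (S0 D) = 16
    rw [card_S0, hp]; norm_num
  obtain ⟨g, hg, hfuse⟩ := exists_fuse D hna
  have hx8 : orderOf D.x = 8 := by rw [D.hord, hp]; norm_num
  have hqx : D.q ∈ zpowers (D.x ^ (1 : ℤ)) := by
    rw [zpow_one]; exact zpow_mem (mem_zpowers _) _
  have hnormal : ∀ P : Sylow 2 (CC D), ¬ (P : Subgroup (CC D)).Normal := by
    intro P hP'
    haveI : Subsingleton (Sylow 2 (CC D)) :=
      @Unique.instSubsingleton _ (Sylow.unique_of_normal P hP')
    have hS₀n : (S₀ : Subgroup (CC D)).Normal := by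
      rwa [Subsingleton.elim S₀ P]
    refine no_fuse D (g := g) (m := 1) ?_ (by rw [zpow_one, hx8]) hqx hfuse
    exact hS₀n.conj_mem ⟨((D.x ^ (1 : ℤ) : (S : Subgroup G)) : G), le_CC D (D.x ^ (1 : ℤ) : (S : Subgroup G)).2⟩
      (D.x ^ (1 : ℤ) : (S : Subgroup G)).2 ⟨g, hg⟩
  have hI : ∀ R T : Sylow 2 (CC D), R ≠ T →
      Cfsg.PRankLE 2 1 ↥((R : Subgroup (CC D)) ⊓ (T : Subgroup (CC D))) := by
    intro R T hRT
    set N := (R : Subgroup (CC D)) ⊓ (T : Subgroup (CC D)) with hN
    have hN8 : Nat.card N = 8 := by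
      obtain ⟨n, hn, hn'⟩ := (Nat.dvd_prime_pow Nat.prime_two).1
        (show Nat.card N ∣ 2 ^ 4 by rw [show 2 ^ 4 = 16 from rfl, ← hS16 R]; exact card_dvd_of_le inf_le_left)
      have h1 : N.index ≤ (R : Subgroup (CC D)).index * (T : Subgroup (CC D)).index :=
        Subgroup.index_inf_le
      have hi : ∀ P : Sylow 2 (CC D), (P : Subgroup (CC D)).index = 3 := fun P => by
        have h := (P : Subgroup (CC D)).card_mul_index
        rw [hS16, hcard] at h; omega
      rw [hi, hi] at h1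
      have h2 := N.card_mul_index
      rw [hcard, hn'] at h2
      have hn4 : n ≠ 4 := fun h => hRT (Sylow.ext ((eq_of_le_of_card_ge (inf_le_left : N ≤ R)
        (by rw [hS16, hn', h]; norm_num)).symm.trans (eq_of_le_of_card_ge (inf_le_right : N ≤ T)
        (by rw [hS16, hn', h]; norm_num))))
      rcases (show n = 0 ∨ n = 1 ∨ n = 2 ∨ n = 3 by omega) with rfl | rfl | rfl | rfl <;>
        norm_num at h2 hn' ⊢ <;> omega
    have hle : ∀ P : Sylow 2 (CC D), N ≤ P → (P : Subgroup (CC D)) ≤ normalizer (N : Set (CC D)) := by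
      intro P hNP
      have h2 : (N.subgroupOf P).index = 2 := by
        have h := (N.subgroupOf P).card_mul_index
        rw [Nat.card_congr (subgroupOfEquivOfLe hNP).toEquiv, hN8, hS16] at h
        omega
      exact (normal_subgroupOf_iff_le_normalizer hNP).1 (normal_of_index_eq_two h2)
    have hnn : normalizer (N : Set (CC D)) = ⊤ := by
      rw [← index_eq_one]
      have h := (normalizer (N : Set (CC D))).card_mul_index
      have h16 := card_dvd_of_le (hle R inf_le_left)
      have hne : Nat.card (normalizer (N : Set (CC D))) ≠ 16 := fun h16' => hRT (Sylow.ext (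
        (eq_of_le_of_card_ge (hle R inf_le_left) (by rw [hS16, h16'])).trans
        (eq_of_le_of_card_ge (hle T inf_le_right) (by rw [hS16, h16'])).symm))
      rw [hcard] at h
      rw [hS16] at h16
      obtain ⟨k, hk⟩ := h16
      rw [hk] at h hne
      have : k * (normalizer (N : Set (CC D))).index = 3 := by
        have h' : 16 * (k * (normalizer (N : Set (CC D))).index) = 16 * 3 := by rw [← mul_assoc]; omega
        omega
      rcases (Nat.dvd_prime Nat.prime_three).1 (Dvd.intro _ this) with e | e <;> subst e <;> omega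
    have hNn : N.Normal := normalizer_eq_top_iff.1 hnn
    have hNS : N ≤ S0 D := (IsPGroup.of_card (n := 3) (show Nat.card N = 2 ^ 3 by rw [hN8]; rfl)).le_sylow_of_normal S₀
    have hsq : ∀ a : CC D, a ∈ S0 D → a * a ∈ N := by
      intro a ha
      have h2 : (N.subgroupOf (S0 D)).index = 2 := by
        have h := (N.subgroupOf (S0 D)).card_mul_index
        rw [Nat.card_congr (subgroupOfEquivOfLe hNS).toEquiv, hN8, card_S0, hp] at h
        omega
      exact mul_self_mem_of_index_two h2 ⟨a, ha⟩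
    have hq : (⟨qG D, le_CC D (qG_mem D)⟩ : CC D) ∈ N := by
      convert hsq ⟨((D.x : (S : Subgroup G)) : G), le_CC D D.x.2⟩ D.x.2 using 1
      refine Subtype.ext ?_
      show ((D.q : (S : Subgroup G)) : G) = ((D.x * D.x : (S : Subgroup G)) : G)
      refine congrArg Subtype.val ?_
      show D.x ^ (2 * D.P) = D.x * D.x
      rw [D.hP, hp, show (2 : ℤ) * 2 ^ 0 = 1 + 1 by norm_num, zpow_add, zpow_one]
    have hv : ∀ i : ℤ, ¬ 2 ∣ i → (⟨vG D i, le_CC D (vG_mem D i)⟩ : CC D) ∈ N := by
      intro i hi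
      obtain ⟨s, hs⟩ := D.exists_conj_zy (i := i) (k := 1) (by omega)
      have h := hNn.conj_mem _ hq (⟨(s : G), le_CC D s.2⟩ * ⟨g, hg⟩)
      convert h using 1
      refine Subtype.ext ?_
      show vG D i = (s : G) * g * qG D * ((s : G) * g)⁻¹
      rw [show (s : G) * g * qG D * ((s : G) * g)⁻¹ = (s : G) * (g * qG D * g⁻¹) * (s : G)⁻¹ by group,
        hfuse]
      exact (congrArg Subtype.val hs).symm
    have hinv : ∀ a ∈ N, a ^ 2 = 1 → a = 1 ∨ a = cc D := by
      intro a ha ha2
      by_contra hcon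
      push Not at hcon
      set s : (S : Subgroup G) := ⟨(a : G), hNS ha⟩
      have hs : orderOf s = 2 := orderOf_eq_prime (Subtype.ext (show (a : G) ^ 2 = 1 from congrArg Subtype.val ha2))
        (fun h => hcon.1 (Subtype.ext (congrArg Subtype.val h :)))
      rcases D.orderOf_eq_two_cases hs with h | ⟨i, hi, h⟩
      · exact hcon.2 (Subtype.ext (congrArg Subtype.val h :))
      · have hx' : ((⟨((D.x : (S : Subgroup G)) : G), le_CC D D.x.2⟩ : CC D)) ∈ N := by
          have hm := N.mul_mem (hv (i + 1) (by omega)) ha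
          have e : (D.x ^ (i + 1) * D.y) * s = D.x ^ (i + 1 + (4 * D.P - 1) * i) := by
            rw [h]; exact D.zy_mul_zy _ _
          have hP1 : D.P = 1 := by rw [D.hP, hp]; rfl
          obtain ⟨j, rfl⟩ := hi
          have hu : D.x ^ (2 * j + 1 + (4 * D.P - 1) * (2 * j)) = D.x ^ (8 * j + 1) := by
            rw [hP1]; congr 1; ring
          have hx1 : D.x ^ (8 * j + 1) = D.x ^ (1 : ℤ) := D.zpow_eq_iff.2 ⟨j, by rw [hP1]; ring⟩
          rw [hu, hx1, zpow_one] at e
          convert hm using 1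
          refine Subtype.ext ?_
          show ((D.x : (S : Subgroup G)) : G) = vG D (2 * j + 1) * (a : G)
          exact (congrArg Subtype.val e).symm
        have hall : S0 D ≤ N := by
          intro b hb
          obtain ⟨k, hk | hk⟩ := D.normalForm ⟨(b : G), hb⟩
          · have : b = (⟨((D.x : (S : Subgroup G)) : G), le_CC D D.x.2⟩ : CC D) ^ k :=
              Subtype.ext (by rw [SubgroupClass.coe_zpow]; show (b : G) = ((D.x : (S : Subgroup G)) : G) ^ k; rw [← SubgroupClass.coe_zpow]; exact congrArg (fun w : (S : Subgroup G) => (w : G)) hk)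
            exact this ▸ N.zpow_mem hx' k
          · have : b = (⟨((D.x : (S : Subgroup G)) : G), le_CC D D.x.2⟩ : CC D) ^ (k - 1) *
                ⟨vG D 1, le_CC D (vG_mem D 1)⟩ :=
              Subtype.ext (by
                rw [Subgroup.coe_mul, SubgroupClass.coe_zpow]
                show (b : G) = ((D.x : (S : Subgroup G)) : G) ^ (k - 1) * vG D 1
                rw [← SubgroupClass.coe_zpow, ← Subgroup.coe_mul]
                refine (congrArg (fun w : (S : Subgroup G) => (w : G)) hk).trans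
                  (congrArg (fun w : (S : Subgroup G) => (w : G)) ?_)
                rw [D.mul_zy, sub_add_cancel])
            exact this ▸ N.mul_mem (N.zpow_mem hx' _) (hv 1 (by omega))
        have := card_le_of_le hall
        rw [card_S0, hp, hN8] at this
        norm_num at this
    intro A _ hA2
    rw [pow_one]
    classical
    calc Nat.card A ≤ Nat.card (Fin 2) := by
          refine Nat.card_le_card_of_injective (fun a : A => if (((a : N)) : CC D) = 1 then (0 : Fin 2) else 1) ?_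
          intro a b hab
          have key : ∀ a : A, ((a : N) : CC D) = 1 ∨ ((a : N) : CC D) = cc D := fun a =>
            hinv _ (a : N).2 (congrArg Subtype.val (hA2 a a.2))
          have hc1 : cc D ≠ 1 := fun h => Invol.ne_one_of_invol (orderOf_cc D) h
          refine Subtype.ext (Subtype.ext ?_)
          rcases key a with ea | ea <;> rcases key b with eb | eb <;> simp_all
      _ = 2 := Nat.card_fin 2
  rcases InvChar.RankOne.main hO hI with ⟨P, hPn⟩ | h | ⟨-, -, -, hQ⟩
  · exact absurd hPn (hnormal P)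
  · exact h
  · exfalso
    obtain ⟨e⟩ := hQ S₀
    set a : (S₀ : Subgroup (CC D)) := ⟨⟨vG D 0, le_CC D (vG_mem D 0)⟩, vG_mem D 0⟩
    set b : (S₀ : Subgroup (CC D)) := ⟨cc D, (D.c).2⟩
    have hdec : ∀ w : QuaternionGroup 4, w * w = 1 → w = 1 ∨ w = QuaternionGroup.a 4 := by decide
    have ha : orderOf a = 2 := by
      rw [← Subgroup.orderOf_coe, ← Subgroup.orderOf_coe]; exact orderOf_u D
    have hb : orderOf b = 2 := by rw [← Subgroup.orderOf_coe]; exact orderOf_cc D
    have h1 := (hdec (e a) (Invol.mul_self_eq_one (by rw [e.orderOf_eq, ha]))).resolve_left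
      (Invol.ne_one_of_invol (by rw [e.orderOf_eq, ha]))
    have h2 := (hdec (e b) (Invol.mul_self_eq_one (by rw [e.orderOf_eq, hb]))).resolve_left
      (Invol.ne_one_of_invol (by rw [e.orderOf_eq, hb]))
    have h3 : a = b := e.injective (h1.trans h2.symm)
    exact vG_ne_cG S D 0 (congrArg (fun w : (S₀ : Subgroup (CC D)) => ((w : CC D) : G)) h3)

theorem semidihedral_false [IsSimpleGroup G] (D : QDGens (S : Subgroup G))
    (hna : ¬ IsMulCommutative G) (hP : SC G) : False := by
  obtain ⟨h48, ⟨e⟩⟩ := exists_gl23 D hna hP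
  have : Fact (Nat.Prime 3) := ⟨Nat.prime_three⟩
  have h9 : 9 ∣ Nat.card G := by
    rcases Cfsg.Agent.S0197.result (cG D) (orderOf_cG D) e with h | h <;> rw [h] <;> norm_num
  obtain ⟨y', hy'⟩ := exists_prime_orderOf_dvd_card' (G := CC D) 3 (by rw [h48]; norm_num)
  set y : G := (y' : G)
  have hy : orderOf y = 3 := (Subgroup.orderOf_coe y').trans hy'
  obtain ⟨P, hyP⟩ := (IsPGroup.of_card (n := 1)
    (show Nat.card (zpowers y) = 3 ^ 1 by rw [Nat.card_zpowers, hy, pow_one])).exists_le_sylow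
  have hyP' : y ∈ (P : Subgroup G) := hyP (mem_zpowers y)
  have hP9 : 9 ∣ Nat.card (P : Subgroup G) := P.pow_dvd_card_of_pow_dvd_card (n := 2) h9
  have hC9 : 9 ∣ Nat.card (centralizer ({y} : Set G)) := by
    by_cases hc : (P : Subgroup G) ≤ centralizer ({y} : Set G)
    · exact hP9.trans (card_dvd_of_le hc)
    have : Nontrivial (P : Subgroup G) := Finite.one_lt_card_iff_nontrivial.1
      (lt_of_lt_of_le (by norm_num) (Nat.le_of_dvd Nat.card_pos hP9))
    haveI := P.isPGroup'.center_nontrivial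
    set Z := (center (P : Subgroup G)).map (P : Subgroup G).subtype
    set M := Z ⊔ zpowers y
    have hMP : M ≤ P := sup_le (map_subtype_le _) hyP
    have hMC : M ≤ centralizer ({y} : Set G) := by
      refine sup_le ?_ (zpowers_le.2 (mem_centralizer_singleton_iff.2 rfl))
      rintro _ ⟨z, hz, rfl⟩
      exact mem_centralizer_singleton_iff.2
        (congrArg Subtype.val (mem_center_iff.1 hz ⟨y, hyP'⟩).symm)
    have hyZ : y ∉ Z := by
      rintro ⟨z, hz, hzy⟩
      refine hc fun a ha => mem_centralizer_singleton_iff.2 ?_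
      rw [← hzy]
      exact congrArg Subtype.val (mem_center_iff.1 hz ⟨a, ha⟩)
    obtain ⟨m, hm⟩ := IsPGroup.iff_card.1 (P.isPGroup'.to_le hMP)
    have hlt : Nat.card Z < Nat.card M := by
      refine lt_of_le_of_ne (card_le_of_le le_sup_left) fun h => hyZ ?_
      rw [eq_of_le_of_card_ge (le_sup_left : Z ≤ M) h.ge]
      exact mem_sup_right (mem_zpowers y)
    have hZ3 : 3 ≤ Nat.card Z := by
      rw [card_map_of_injective (subtype_injective _)]
      rcases (P.isPGroup'.to_subgroup (center (P : Subgroup G))).card_eq_or_dvd with h | h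
      · exact absurd h (Finite.one_lt_card (α := center (P : Subgroup G))).ne'
      · exact Nat.le_of_dvd Nat.card_pos h
    have hm2 : 2 ≤ m := by
      by_contra h
      have : 3 ^ m ≤ 3 ^ 1 := Nat.pow_le_pow_right (by norm_num) (by omega)
      omega
    exact (Nat.pow_dvd_pow 3 hm2).trans (hm ▸ card_dvd_of_le hMC)
  have hle := centralizer_le hP (orderOf_cG D) (by rw [hy]; decide)
    (show y ≠ 1 from fun h => by rw [h, orderOf_one] at hy; omega) ((mem_CC D).1 y'.2)
  have := hC9.trans (card_dvd_of_le hle)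
  rw [show Nat.card (centralizer ({cG D} : Set G)) = 48 from h48] at this
  norm_num at this

end CfsgLib.SelfCentNoncyclic
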