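import Cfsg.Agent.Lib.SelfCentNoncyclic.Dihedral
import Cfsg.Agent.Lib.TwoFusion.InvolCentralizer
import Cfsg.Agent.Lib.Case.TwoNilpotent

/-!
A semidihedral Sylow 2-subgroup: the centralizers inside the centralizer of the central involution.
-/

set_option autoImplicit false

namespace CfsgLib.SelfCentNoncyclic

open Subgroup CfsgLib.TwoFusion CfsgLib.TwoFusion.QDFusion

variable {G : Type*} [Group G] [Finite G] {S : Sylow 2 G} (D : QDGens (S : Subgroup G))

/-- The centralizer of the central involution. -/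
abbrev CC : Subgroup G := centralizer ({cG D} : Set G)

theorem mem_CC {g : G} : g ∈ CC D ↔ g * cG D = cG D * g := mem_centralizer_singleton_iff

theorem le_CC : (S : Subgroup G) ≤ CC D := fun _ hs => (mem_CC D).2 (cG_comm D hs).symm

theorem qG_mem : qG D ∈ (S : Subgroup G) := (D.q).2

theorem vG_mem (i : ℤ) : vG D i ∈ (S : Subgroup G) := (D.x ^ i * D.y : (S : Subgroup G)).2

theorem orderOf_u : orderOf (vG D 0) = 2 := orderOf_vG_even D (dvd_zero 2)

theorem c_u : cG D * vG D 0 = vG D 0 * cG D := cG_comm D (vG_mem D 0)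

theorem qG_sq : qG D * qG D = cG D := congrArg Subtype.val D.q_sq

theorem qG_inv : (qG D)⁻¹ = qG D * cG D := by
  refine inv_eq_of_mul_eq_one_right ?_
  rw [← mul_assoc, qG_sq]
  exact congrArg Subtype.val D.c_mul_c

theorem u_conj_q : vG D 0 * qG D * (vG D 0)⁻¹ = (qG D)⁻¹ :=
  congrArg Subtype.val (D.zy_conj_q 0)

theorem q_conj_u : qG D * vG D 0 * (qG D)⁻¹ = cG D * vG D 0 := by
  rw [← inv_inv (qG D)] 
  have h := u_conj_q D
  rw [mul_inv_eq_iff_eq_mul] at h
  rw [inv_inv, mul_inv_eq_iff_eq_mul, ← qG_sq D, mul_assoc, mul_assoc, h, mul_inv_cancel_left]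

theorem no_index_two [IsSimpleGroup G] (hna : ¬ IsMulCommutative G) (H : Subgroup G) :
    H.index ≠ 2 := by
  intro h
  rcases IsSimpleGroup.eq_bot_or_eq_top_of_normal H (normal_of_index_eq_two h) with hb | ht
  · rw [hb, index_bot] at h
    have : Fact (Nat.Prime 2) := ⟨Nat.prime_two⟩
    haveI := isCyclic_of_prime_card h
    exact hna IsCyclic.isMulCommutative
  · rw [ht, index_top] at h
    omega

/-- The elements of order four of `S` outside the cyclic subgroup are fused into it in `CC`. -/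
theorem exists_fuse [IsSimpleGroup G] (hna : ¬ IsMulCommutative G) :
    ∃ g ∈ CC D, g * qG D * g⁻¹ = vG D 1 := by
  obtain ⟨g, hg⟩ := isConj_iff.1
    ((InvolCentralizer.qd_isConj (no_index_two hna) S D).2.symm)
  refine ⟨g, (mem_CC D).2 (mul_inv_eq_iff_eq_mul.1 ?_), hg⟩
  have h1 : vG D 1 * vG D 1 = cG D := by
    have := congrArg Subtype.val (D.sq_zy_odd (i := 1) (by omega))
    simpa [pow_two] using this
  calc g * cG D * g⁻¹ = g * qG D * g⁻¹ * (g * qG D * g⁻¹) := by rw [← qG_sq D]; group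
    _ = cG D := by rw [hg, h1]

theorem four_u (hP : SC G) {g : G} (hc : g ∈ CC D) (hu : g * vG D 0 = vG D 0 * g) :
    g = 1 ∨ g = cG D ∨ g = vG D 0 ∨ g = cG D * vG D 0 :=
  four_eq hP (orderOf_cG D) (orderOf_u D) (vG_ne_cG S D 0).symm (c_u D) ((mem_CC D).1 hc) hu

theorem not_central (D : QDGens (S : Subgroup G)) {s : (S : Subgroup G)} (ho : orderOf s = 4)
    (hc : ∀ t : (S : Subgroup G), t * s = s * t) : False := by
  have hy := mul_inv_eq_iff_eq_mul.2 (hc D.y)
  rcases D.orderOf_eq_four_cases ho with rfl | rfl | ⟨i, -, rfl⟩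
  · rw [D.y_conj_q] at hy
    exact D.q_ne_q_inv hy.symm
  · have h := congrArg (·⁻¹) hy
    simp only [mul_inv_rev, inv_inv] at h
    rw [← mul_assoc, D.y_conj_q] at h
    exact D.q_ne_q_inv h.symm
  · have hq := mul_inv_eq_iff_eq_mul.2 (hc D.q).symm
    rw [D.zy_conj_q] at hq
    exact D.q_ne_q_inv hq.symm

/-- The centralizer of `q` is the cyclic maximal subgroup of `S`. -/
theorem centralizer_qG (hP : SC G) :
    centralizer ({qG D} : Set G) = zpowers ((D.x : (S : Subgroup G)) : G) := by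
  have : Fact (Nat.Prime 2) := ⟨Nat.prime_two⟩
  set K := centralizer ({qG D} : Set G) with hK
  set X := zpowers ((D.x : (S : Subgroup G)) : G) with hX
  have hXK : X ≤ K := by
    rw [hX, zpowers_le, hK, mem_centralizer_singleton_iff]
    exact congrArg Subtype.val (Commute.zpow_right (Commute.refl D.x) (2 * D.P)).eq
  have hXc : Nat.card X = 2 ^ (D.p + 3) := by
    rw [hX, Nat.card_zpowers, Subgroup.orderOf_coe, D.hord]
  have hKC : ∀ k ∈ K, k * cG D = cG D * k := fun k hk => by
    have h : Commute k (qG D) := mem_centralizer_singleton_iff.1 hk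
    rw [← qG_sq D]
    exact (h.mul_right h).eq
  obtain ⟨R, hR⟩ := ((IsPGroup.of_card hXc).comap_of_injective K.subtype
    (subtype_injective K) : IsPGroup 2 (X.subgroupOf K)).exists_le_sylow
  have hRX : (R : Subgroup K) = X.subgroupOf K := by
    refine (eq_of_le_of_card_ge hR ?_).symm
    show Nat.card (R : Subgroup K) ≤ Nat.card (X.subgroupOf K)
    rw [Nat.card_congr (subgroupOfEquivOfLe hXK).toEquiv, hXc]
    have hp : IsPGroup 2 ((R : Subgroup K).map K.subtype) := R.isPGroup'.map _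
    obtain ⟨T, hT⟩ := hp.exists_le_sylow
    obtain ⟨a, ha⟩ := IsPGroup.iff_card.1 R.isPGroup'
    rw [ha]
    refine Nat.pow_le_pow_right (by norm_num) ?_
    have hTc : Nat.card (T : Subgroup G) = 2 ^ (D.p + 4) := by
      rw [Nat.card_congr (T.equiv S).toEquiv, D.hcard]
    have hle : Nat.card ((R : Subgroup K).map K.subtype) ≤ 2 ^ (D.p + 4) := hTc ▸ card_le_of_le hT
    rw [card_map_of_injective (subtype_injective _), ha] at hle
    have hle' := (Nat.pow_le_pow_iff_right (le_refl 2)).1 hle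
    rcases hle'.lt_or_eq with h | h
    · omega
    · exfalso
      have hTeq : (R : Subgroup K).map K.subtype = T := eq_of_le_of_card_ge hT (by
        rw [card_map_of_injective (subtype_injective _), ha, hTc, h])
      have hTK : (T : Subgroup G) ≤ K := hTeq ▸ map_subtype_le _
      have hqK : qG D ∈ K := mem_centralizer_singleton_iff.2 rfl
      have hqT : qG D ∈ (T : Subgroup G) := by
        rw [← hTeq]
        exact ⟨⟨_, hqK⟩, hR (zpow_mem (mem_zpowers _) (2 * D.P) : qG D ∈ X), rfl⟩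
      refine not_central D (s := T.equiv S ⟨_, hqT⟩) ?_ fun t => ?_
      · rw [(T.equiv S).orderOf_eq, Subgroup.orderOf_mk, orderOf_qG]
      · obtain ⟨w, rfl⟩ := (T.equiv S).surjective t
        rw [← map_mul, ← map_mul]
        exact congrArg _ (Subtype.ext (mem_centralizer_singleton_iff.1 (hTK w.2)))
  have hcyc : IsCyclic (R : Subgroup K) := by
    rw [hRX]
    exact isCyclic_of_surjective (subgroupOfEquivOfLe hXK).symm
      (subgroupOfEquivOfLe hXK).symm.surjective
  obtain ⟨l, hl⟩ := Case.index_oddCore_of_cyclic (R : Subgroup K) R.isPGroup'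
    (Nat.odd_iff.2 (Nat.two_dvd_ne_zero.1 R.not_dvd_index)) hcyc
  have huK : ∀ a ∈ K, vG D 0 * a * (vG D 0)⁻¹ ∈ K := fun a ha => by
    have h : a * (qG D)⁻¹ = (qG D)⁻¹ * a :=
      (Commute.inv_right (mem_centralizer_singleton_iff.1 ha : Commute a (qG D))).eq
    have e : qG D = vG D 0 * (qG D)⁻¹ * (vG D 0)⁻¹ := by
      have := u_conj_q D
      rw [← inv_inv (qG D)]
      nth_rewrite 1 [← this]
      group
    rw [hK, mem_centralizer_singleton_iff]
    nth_rewrite 1 [e]
    nth_rewrite 2 [e]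
    calc vG D 0 * a * (vG D 0)⁻¹ * (vG D 0 * (qG D)⁻¹ * (vG D 0)⁻¹)
        = vG D 0 * (a * (qG D)⁻¹) * (vG D 0)⁻¹ := by group
      _ = _ := by rw [h]; group
  have hA : (Cfsg.pPrimeCore 2 K).map K.subtype = ⊥ := by
    haveI : (Cfsg.pPrimeCore 2 K).Normal := Solvable.pPrimeCore_normal 2 _
    refine odd_subgroup_trivial hP (orderOf_cG D) (orderOf_u D) (vG_ne_cG S D 0).symm (c_u D) _ ?_ ?_ ?_
    · rw [card_map_of_injective (subtype_injective _)]
      exact Nat.coprime_two_right.1 (Solvable.pPrimeCore_card_coprime 2 _)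
    · rintro _ ⟨a, -, rfl⟩
      exact (hKC a a.2).symm
    · rintro _ ⟨a, ha, rfl⟩
      refine ⟨⟨_, huK a a.2⟩, ?_, rfl⟩
      set b : K := ⟨_, huK a a.2⟩
      have hb : Odd (orderOf b) := by
        rw [← Subgroup.orderOf_coe, show ((b : K) : G) = vG D 0 * a * (vG D 0)⁻¹ from rfl,
          Invol.orderOf_conj, Subgroup.orderOf_coe]
        exact Nat.coprime_two_right.1 (((Solvable.pPrimeCore_card_coprime 2 K).coprime_dvd_left
          ((Subgroup.orderOf_mk (H := Cfsg.pPrimeCore 2 K) a ha).symm ▸ orderOf_dvd_natCard _)))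
      have h1 : orderOf (QuotientGroup.mk' (Cfsg.pPrimeCore 2 K) b) ∣ 2 ^ l :=
        hl ▸ orderOf_dvd_natCard _
      have h2 := orderOf_map_dvd (QuotientGroup.mk' (Cfsg.pPrimeCore 2 K)) b
      have h3 : orderOf (QuotientGroup.mk' (Cfsg.pPrimeCore 2 K) b) = 1 :=
        Nat.eq_one_of_dvd_coprimes ((Nat.coprime_two_right.2 hb).pow_right l) h2 h1
      exact (QuotientGroup.eq_one_iff b).1 (orderOf_eq_one_iff.1 h3)
  rw [Subgroup.map_eq_bot_iff_of_injective _ (subtype_injective _)] at hA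
  rw [hA, index_bot] at hl
  have htop : (⊤ : Subgroup K) = R :=
    R.is_maximal' ((IsPGroup.of_card hl).to_subgroup ⊤) le_top
  refine le_antisymm (fun k hk => ?_) hXK
  have : (⟨k, hk⟩ : K) ∈ X.subgroupOf K := by rw [← hRX, ← htop]; exact mem_top _
  exact this

end CfsgLib.SelfCentNoncyclic
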